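import Cfsg.Agent.R2.H1.A7.Hess
import Cfsg.Agent.R2.H1.F4.AlphaF

/-!
# Preliminaries for `p = 7` (helper1, S5931)
-/

set_option autoImplicit false
set_option linter.unusedSectionVars false
set_option linter.unusedSimpArgs false

namespace Cfsg.Agent.R2.H1.A7

open Cfsg Cfsg.Lie Module Cfsg.Agent.H952.F4 Cfsg.Agent.H952.F4.Jord
open Cfsg.Agent.ChevalleyStructure.E6Min.Tables Cfsg.Agent.ChevalleyStructure.E6Min.Basic
open Cfsg.Agent.R2.F4N (Str)
open Cfsg.Agent.R2.F4L (Act)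
open Cfsg.Agent.H952.F4.FixV (W0 mem_W0 finrank_W0 trL tfL tfL_apply tr1_sub tf_sub_left tf_sub_right)
open Cfsg.Agent.R2.H1.F4
open Finset

universe u v w

section nz

variable (k : Type u) [Field k] [CharP k 7]

theorem nz (n : ℕ) (h : n % 7 ≠ 0) : (n : k) ≠ 0 := by
  intro h1
  rw [CharP.cast_eq_zero_iff k 7] at h1
  omega

theorem n2 : (2 : k) ≠ 0 := by exact_mod_cast nz k 2 (by norm_num)
theorem n3 : (3 : k) ≠ 0 := by exact_mod_cast nz k 3 (by norm_num)
theorem n4 : (4 : k) ≠ 0 := by exact_mod_cast nz k 4 (by norm_num)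
theorem n5 : (5 : k) ≠ 0 := by exact_mod_cast nz k 5 (by norm_num)
theorem n6 : (6 : k) ≠ 0 := by exact_mod_cast nz k 6 (by norm_num)
theorem n12 : (12 : k) ≠ 0 := by exact_mod_cast nz k 12 (by norm_num)

theorem sv7 : (7 : k) = 0 := by
  have := CharP.cast_eq_zero k 7
  exact_mod_cast this

end nz

section li

variable {k : Type u} [Field k] {K : Type w} [Field K] [Fintype K] {κ : K →+* k} {W : Type v} [AddCommGroup W] [Module k W]
variable {ρ : Representation k (Matrix.SpecialLinearGroup (Fin 2) K) W}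

/-- a nonzero string is linearly independent -/
theorem str_li {n : ℕ} {x : ℕ → W} (hx : Str κ ρ n x) (hn : n < Fintype.card K) (h0 : x 0 ≠ 0) {c : ℕ → k}
    (h : ∑ a ∈ range (n + 1), c a • x a = 0) : ∀ a ≤ n, c a = 0 := by
  intro a ha
  by_contra hc
  have h1 := str_top_mem hx hn (S := ⊥) (fun g v hv => by
    rw [Submodule.mem_bot] at hv ⊢
    rw [hv, map_zero]) (c := c) (by rw [h]; exact Submodule.zero_mem _) ha hc
  rw [Submodule.mem_bot] at h1
  have h2 := hx.w 0 (Nat.zero_le _)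
  rw [Nat.sub_zero, h1, smul_zero] at h2
  apply h0
  have h3 := congrArg (ρ (Cfsg.Agent.H943.SL2Rel.w)⁻¹) h2
  rwa [map_zero, ← Module.End.mul_apply, ← map_mul, inv_mul_cancel, map_one, Module.End.one_apply] at h3

/-- coordinates in the span -/
theorem spx_coord {n : ℕ} {x : ℕ → W} {w : W} (hw : w ∈ Submodule.span k {w | ∃ a, a ≤ n ∧ w = x a}) :
    ∃ c : ℕ → k, w = ∑ a ∈ range (n + 1), c a • x a := by
  induction hw using Submodule.span_induction with
  | mem w hw =>
    obtain ⟨b, hb, rfl⟩ := hw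
    refine ⟨fun a => if a = b then 1 else 0, ?_⟩
    rw [sum_eq_single b]
    · simp only [if_true, one_smul]
    · intro a _ hne
      simp only [if_neg hne, zero_smul]
    · intro h
      exact absurd (mem_range.2 (by omega)) h
  | zero => exact ⟨fun _ => 0, by simp⟩
  | add w w' _ _ ih ih' =>
    obtain ⟨c, hc⟩ := ih
    obtain ⟨c', hc'⟩ := ih'
    refine ⟨fun a => c a + c' a, ?_⟩
    rw [hc, hc', ← sum_add_distrib]
    exact sum_congr rfl fun a _ => (add_smul _ _ _).symm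
  | smul r w _ ih =>
    obtain ⟨c, hc⟩ := ih
    refine ⟨fun a => r * c a, ?_⟩
    rw [hc, smul_sum]
    exact sum_congr rfl fun a _ => smul_smul _ _ _

end li

section tab

variable {k : Type u} [Field k] {K : Type w} [Field K] [Fintype K] {κ : K →+* k}
variable {ρ : Representation k (Matrix.SpecialLinearGroup (Fin 2) K) (I27 → k)}
variable [Fact (Nat.Prime 7)] [CharP k 7] (hK : 7 ≤ Fintype.card K)

include hK

theorem tab222 (H : Act ρ) {x y z : ℕ → (I27 → k)} (hx : Str κ ρ 4 x) (hy : Str κ ρ 4 y) (hz : Str κ ρ 4 z) :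
    ∃ c₀ : k, ∀ a b c, ((4 : ℕ).choose a : k) * (((4 : ℕ).choose b : k) * (((4 : ℕ).choose c : k) *
      tf (st (x a) (y b)) (z c))) = c₀ * (tau 2 2 2 a b c : k) :=
  str_tab (N := N3 k) (N3_inv H) (p := 7) (A := 2) (B := 2) (C := 2) hx hy hz hK (by norm_num) (by norm_num) (by norm_num)
    (by omega) (by decide +kernel) (by decide +kernel)

theorem tab133 (H : Act ρ) {x y z : ℕ → (I27 → k)} (hx : Str κ ρ 4 x) (hy : Str κ ρ 4 y) (hz : Str κ ρ 6 z) :
    ∃ c₀ : k, ∀ a b c, ((4 : ℕ).choose a : k) * (((4 : ℕ).choose b : k) * (((6 : ℕ).choose c : k) *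
      tf (st (x a) (y b)) (z c))) = c₀ * (tau 1 3 3 a b c : k) :=
  str_tab (N := N3 k) (N3_inv H) (p := 7) (A := 1) (B := 3) (C := 3) hx hy hz hK (by norm_num) (by norm_num) (by norm_num)
    (by omega) (by decide +kernel) (by decide +kernel)

theorem tab224 (H : Act ρ) {x y z : ℕ → (I27 → k)} (hx : Str κ ρ 4 x) (hy : Str κ ρ 6 y) (hz : Str κ ρ 6 z) :
    ∃ c₀ : k, ∀ a b c, ((4 : ℕ).choose a : k) * (((6 : ℕ).choose b : k) * (((6 : ℕ).choose c : k) *
      tf (st (x a) (y b)) (z c))) = c₀ * (tau 2 2 4 a b c : k) :=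
  str_tab (N := N3 k) (N3_inv H) (p := 7) (A := 2) (B := 2) (C := 4) hx hy hz hK (by norm_num) (by norm_num) (by norm_num)
    (by omega) (by decide +kernel) (by decide +kernel)

/-- `T(y * y, z) = 0` for `y` of length 4, `z` of length 6 -/
theorem tab_anti133 (H : Act ρ) {y z : ℕ → (I27 → k)} (hy : Str κ ρ 4 y) (hz : Str κ ρ 6 z) {a b c : ℕ} (ha : a ≤ 4) (hb : b ≤ 4)
    (hc : c ≤ 6) : tf (st (y a) (y b)) (z c) = 0 := by
  obtain ⟨c₀, h⟩ := tab133 hK H hy hy hz
  have h0 : c₀ = 0 := by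
    have h1 := h 0 1 6
    have h2 := h 1 0 6
    rw [st_comm (y 1)] at h2
    have t1 : tau 1 3 3 0 1 6 = -1 := by decide +kernel
    have t2 : tau 1 3 3 1 0 6 = 1 := by decide +kernel
    rw [t1] at h1
    rw [t2] at h2
    norm_num [Nat.choose] at h1 h2
    have h3 : (2 : k) * c₀ = 0 := by linear_combination h1 - h2
    exact (mul_eq_zero.1 h3).resolve_left (n2 k)
  have h1 := h a b c
  rw [h0, zero_mul] at h1
  have e1 : ((4 : ℕ).choose a : k) ≠ 0 := R2.F4N.choose_ne (p := 7) (by norm_num) ha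
  have e2 : ((4 : ℕ).choose b : k) ≠ 0 := R2.F4N.choose_ne (p := 7) (by norm_num) hb
  have e3 : ((6 : ℕ).choose c : k) ≠ 0 := R2.F4N.choose_ne (p := 7) (by norm_num) hc
  exact (((mul_eq_zero.1 h1).resolve_left e1 |> mul_eq_zero.1).resolve_left e2 |> mul_eq_zero.1).resolve_left e3

end tab

end Cfsg.Agent.R2.H1.A7
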