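import Cfsg.Agent.R2.H1.A7.Base

/-!
# The normalised data, `p = 7` (helper1, S5931)
-/

set_option autoImplicit false
set_option linter.unusedSectionVars false

namespace Cfsg.Agent.R2.H1.A7

open Cfsg Cfsg.Lie Module Cfsg.Agent.H952.F4 Cfsg.Agent.H952.F4.Jord
open Cfsg.Agent.ChevalleyStructure.E6Min.Tables Cfsg.Agent.ChevalleyStructure.E6Min.Basic
open Cfsg.Agent.R2.F4N (Str)
open Cfsg.Agent.R2.F4L (Act)
open Cfsg.Agent.R2.H1.F4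

universe u v w

/-- the normalised data -/
structure Dat2 {k : Type u} [Field k] {K : Type w} [Field K] [Fintype K] (κ : K →+* k)
    (ρ : Representation k (Matrix.SpecialLinearGroup (Fin 2) K) (I27 → k)) (x m v : ℕ → (I27 → k)) : Prop
    extends Dat κ ρ x m v where
  m1 : tf (m 0) (m 4) = 1
  v1 : tf (v 0) (v 6) = 1
  xxm : ∀ a ≤ 4, ∀ b ≤ 4, ∀ c ≤ 4, tf (st (x a) (x b)) (m c) = 0
  xxv : ∀ a ≤ 4, ∀ b ≤ 4, ∀ c ≤ 6, tf (st (x a) (x b)) (v c) = 0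
  c1 : tf (st (x 2) (x 2)) (x 2) ≠ 0
  f4 : ∀ a ≤ 4, ∀ b ≤ 4, ∀ c ≤ 4, ∀ d ≤ 4, tf (st (x a) (st (x b) (x c))) (m d) = 0
  f6 : ∀ a ≤ 4, ∀ b ≤ 4, ∀ c ≤ 4, ∀ d ≤ 6, tf (st (x a) (st (x b) (x c))) (v d) = 0
  /-- the orthogonal complement of the products `x * x` is spanned by `m` and `v` -/
  udec : ∀ w, tr1 w = 0 → (∀ a ≤ 4, ∀ b ≤ 4, tf w (st (x a) (x b)) = 0) →
    w = ∑ a ∈ Finset.range 5, ((-1) ^ a * (((4 : ℕ).choose a : ℕ) : k) * tf w (m (4 - a))) • m a +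
      ∑ a ∈ Finset.range 7, ((-1) ^ a * (((6 : ℕ).choose a : ℕ) : k) * tf w (v (6 - a))) • v a

end Cfsg.Agent.R2.H1.A7
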