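import Cfsg.Agent.R2.H1.A7.Rows
import Cfsg.Agent.R2.H1.F4.StrIrr

/-!
# The four-linear form `T(x * (y * z), u)` on strings, `p = 7` (helper1, S5931)

`four_zero` : `T(x_a * (x_b * x_c), z_d) = 0`.
-/

set_option autoImplicit false
set_option linter.unusedSectionVars false

namespace Cfsg.Agent.R2.H1.A7

open Cfsg Cfsg.Lie Module Cfsg.Agent.H952.F4 Cfsg.Agent.H952.F4.Jord
open Cfsg.Agent.ChevalleyStructure.E6Min.Tables Cfsg.Agent.ChevalleyStructure.E6Min.Basic
open Cfsg.Agent.R2.F4N (Str)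
open Cfsg.Agent.R2.F4L (Act)
open Cfsg.Agent.R2.H1.F4
open Finset

universe u v w

section lin

variable {k : Type u} [Field k]

/-- the four-linear form -/
noncomputable def G4 (x y z w : I27 → k) : k := tf (st x (st y z)) w

theorem tf_zero_l (y : I27 → k) : tf (0 : I27 → k) y = 0 := by
  have := tf_smul_left (0 : k) (0 : I27 → k) y
  rwa [zero_smul, zero_mul] at this

theorem st_zero_l (y : I27 → k) : st (0 : I27 → k) y = 0 := by
  have := st_smul_left (0 : k) (0 : I27 → k) y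
  rwa [zero_smul, zero_smul] at this

theorem st_zero_r (y : I27 → k) : st y (0 : I27 → k) = 0 := by rw [st_comm, st_zero_l]

theorem G4_s1 {ι : Type*} (s : Finset ι) (c : ι → k) (x : ι → (I27 → k)) (y z w : I27 → k) :
    G4 (∑ i ∈ s, c i • x i) y z w = ∑ i ∈ s, c i * G4 (x i) y z w := by
  classical
  induction s using Finset.induction_on with
  | empty => simp only [sum_empty]; unfold G4; rw [st_zero_l, tf_zero_l]
  | insert a s ha ih =>
    rw [sum_insert ha, sum_insert ha, ← ih]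
    unfold G4
    rw [st_add_left, tf_add_left, st_smul_left, tf_smul_left]

theorem G4_s2 {ι : Type*} (s : Finset ι) (c : ι → k) (y : ι → (I27 → k)) (x z w : I27 → k) :
    G4 x (∑ i ∈ s, c i • y i) z w = ∑ i ∈ s, c i * G4 x (y i) z w := by
  classical
  induction s using Finset.induction_on with
  | empty => simp only [sum_empty]; unfold G4; rw [st_zero_l, st_zero_r, tf_zero_l]
  | insert a s ha ih =>
    rw [sum_insert ha, sum_insert ha, ← ih]
    unfold G4
    rw [st_add_left, st_add_right, tf_add_left, st_smul_left, st_smul_right, tf_smul_left]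

theorem G4_s3 {ι : Type*} (s : Finset ι) (c : ι → k) (z : ι → (I27 → k)) (x y w : I27 → k) :
    G4 x y (∑ i ∈ s, c i • z i) w = ∑ i ∈ s, c i * G4 x y (z i) w := by
  have h : ∀ z, G4 x y z w = G4 x z y w := fun z => by unfold G4; rw [st_comm y z]
  rw [h, G4_s2]
  exact sum_congr rfl fun i _ => by rw [h]

theorem G4_s4 {ι : Type*} (s : Finset ι) (c : ι → k) (w : ι → (I27 → k)) (x y z : I27 → k) :
    G4 x y z (∑ i ∈ s, c i • w i) = ∑ i ∈ s, c i * G4 x y z (w i) := by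
  classical
  induction s using Finset.induction_on with
  | empty => simp only [sum_empty]; unfold G4; rw [tf_comm, tf_zero_l]
  | insert a s ha ih =>
    rw [sum_insert ha, sum_insert ha, ← ih]
    unfold G4
    rw [tf_add_right, tf_smul_right]

end lin

section str

variable {k : Type u} [Field k] {K : Type w} [Field K] [Fintype K] {κ : K →+* k}
variable {ρ : Representation k (Matrix.SpecialLinearGroup (Fin 2) K) (I27 → k)}

theorem G4_inv (H : Act ρ) (g : Matrix.SpecialLinearGroup (Fin 2) K) (x y z w : I27 → k) :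
    G4 (ρ g x) (ρ g y) (ρ g z) (ρ g w) = G4 x y z w := by
  unfold G4
  rw [st_inv H, st_inv H, H.tf]

/-- the string `X` -/
structure Xs (κ : K →+* k) (ρ : Representation k (Matrix.SpecialLinearGroup (Fin 2) K) (I27 → k)) (x : ℕ → (I27 → k)) :
    Prop where
  s : Str κ ρ 4 x
  tr : ∀ a ≤ 4, tr1 (x a) = 0
  xx : ∀ a ≤ 4, ∀ b ≤ 4, tf (x a) (x b) = 0
  md : ∀ b ≤ 4, ∀ c ≤ 4, ∃ v ∈ Submodule.span k {w | ∃ a, a ≤ 4 ∧ w = x a},
    st (x b) (x c) = st (x (hb (b + c))) (x (b + c - hb (b + c))) + v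

/-- the values -/
noncomputable def fE (x z : ℕ → (I27 → k)) (i : ℕ) : k :=
  G4 (x (i % 5)) (x (hb (i / 5 % 9))) (x (i / 5 % 9 - hb (i / 5 % 9))) (z (i / 45))

theorem fE_cd (x z : ℕ → (I27 → k)) {a n d : ℕ} (ha : a ≤ 4) (hn : n ≤ 8) :
    fE x z (cd a n d) = G4 (x a) (x (hb n)) (x (n - hb n)) (z d) := by
  unfold fE cd
  have h1 : (a + 5 * (n + 9 * d)) % 5 = a := by omega
  have h2 : (a + 5 * (n + 9 * d)) / 5 % 9 = n := by omega
  have h3 : (a + 5 * (n + 9 * d)) / 45 = d := by omega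
  rw [h1, h2, h3]

variable {x z : ℕ → (I27 → k)} {L : ℕ}

theorem G4_eq (hX : Xs κ ρ x) (hxz : ∀ a ≤ 4, ∀ b ≤ 4, ∀ d ≤ L, tf (st (x a) (x b)) (z d) = 0) {a b c d : ℕ}
    (ha : a ≤ 4) (hb' : b ≤ 4) (hc : c ≤ 4) (hd : d ≤ L) : G4 (x a) (x b) (x c) (z d) = fE x z (cd a (b + c) d) := by
  rw [fE_cd x z ha (by omega)]
  obtain ⟨v, hv, e⟩ := hX.md b hb' c hc
  unfold G4
  rw [e, st_add_right, tf_add_left]
  have h1 : ∀ v ∈ Submodule.span k {w | ∃ a, a ≤ 4 ∧ w = x a}, tf (st (x a) v) (z d) = 0 := by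
    intro v hv
    induction hv using Submodule.span_induction with
    | mem w hw =>
      obtain ⟨b', hb', rfl⟩ := hw
      exact hxz a ha b' hb' d hd
    | zero => rw [st_zero_r, tf_zero_l]
    | add w w' _ _ ih ih' => rw [st_add_right, tf_add_left, ih, ih', add_zero]
    | smul r w _ ih => rw [st_smul_right, tf_smul_left, ih, mul_zero]
  rw [h1 v hv, add_zero]

variable [CharP k 7]

theorem hb_le (n : ℕ) : hb n ≤ 4 := Nat.min_le_right _ _

theorem hb_sub {n : ℕ} (hn : n ≤ 8) : n - hb n ≤ 4 ∧ hb n ≤ n := by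
  unfold hb
  omega

theorem seven : (7 : k) = 0 := by
  have := CharP.cast_eq_zero k 7
  exact_mod_cast this

theorem inv_three : ((3 : k))⁻¹ = 5 := by
  have h7 := seven (k := k)
  have h3 : (3 : k) ≠ 0 := by
    have h1 : ((3 : ℕ) : k) ≠ 0 := by
      intro h
      rw [CharP.cast_eq_zero_iff k 7] at h
      omega
    exact_mod_cast h1
  exact inv_eq_of_mul_eq_one_right (by linear_combination 2 * h7)

theorem row_t (H : Act ρ) (hX : Xs κ ρ x) (hz : Str κ ρ L z) {a n d : ℕ} (ha : a ≤ 4) (hn : n ≤ 8) (hd : d ≤ L) :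
    ev (fE x z) (rowOf L (.t a n d)) = 0 := by
  obtain ⟨h1, h2⟩ := hb_sub hn
  have hcK : CharP K 7 := (κ.charP_iff κ.injective 7).2 inferInstance
  have h3 : (3 : K) ≠ 0 := by
    have h1 : ((3 : ℕ) : K) ≠ 0 := by
      intro h
      rw [CharP.cast_eq_zero_iff K 7] at h
      omega
    exact_mod_cast h1
  have h4 := G4_inv H (Cfsg.Agent.H943.SL2Rel.h (Units.mk0 (3 : K) h3)) (x a) (x (hb n)) (x (n - hb n)) (z d)
  rw [hX.s.h a ha, hX.s.h _ (hb_le n), hX.s.h _ h1, hz.h d hd] at h4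
  have h5 : κ ((Units.mk0 (3 : K) h3 : Kˣ) : K) = 3 := by
    rw [Units.val_mk0, map_ofNat]
  rw [h5, inv_three] at h4
  have h6 : ∀ (α β γ δ : k) (X Y Z W : I27 → k), G4 (α • X) (β • Y) (γ • Z) (δ • W) = α * β * γ * δ * G4 X Y Z W := by
    intro α β γ δ X Y Z W
    unfold G4
    rw [st_smul_left, st_smul_left, st_smul_right, st_smul_right, st_smul_right, tf_smul_left, tf_smul_left,
      tf_smul_left, tf_smul_right]
    ring
  rw [h6] at h4
  unfold rowOf
  rw [ev_single, fE_cd x z ha hn]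
  push_cast
  have h7 : (3 : k) ^ (a + n + d) * 5 ^ (12 + L - (a + n + d)) = 3 ^ a * 5 ^ (4 - a) * (3 ^ hb n * 5 ^ (4 - hb n)) *
      (3 ^ (n - hb n) * 5 ^ (4 - (n - hb n))) * (3 ^ d * 5 ^ (L - d)) := by
    have e1 : a + n + d = a + hb n + (n - hb n) + d := by omega
    have e2 : 12 + L - (a + n + d) = (4 - a) + (4 - hb n) + (4 - (n - hb n)) + (L - d) := by
      have := hb_le n
      omega
    rw [e2, e1]
    simp only [pow_add]
    ring
  rw [h7]
  linear_combination h4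

theorem row_w (H : Act ρ) (hX : Xs κ ρ x) (hz : Str κ ρ L z)
    (hxz : ∀ a ≤ 4, ∀ b ≤ 4, ∀ d ≤ L, tf (st (x a) (x b)) (z d) = 0) {a n d : ℕ} (ha : a ≤ 4) (hn : n ≤ 8) (hd : d ≤ L) :
    ev (fE x z) (rowOf L (.w a n d)) = 0 := by
  obtain ⟨h1, h2⟩ := hb_sub hn
  have h4 := G4_inv H (Cfsg.Agent.H943.SL2Rel.w) (x a) (x (hb n)) (x (n - hb n)) (z d)
  rw [hX.s.w a ha, hX.s.w _ (hb_le n), hX.s.w _ h1, hz.w d hd] at h4
  have h6 : ∀ (α β γ δ : k) (X Y Z W : I27 → k), G4 (α • X) (β • Y) (γ • Z) (δ • W) = α * β * γ * δ * G4 X Y Z W := by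
    intro α β γ δ X Y Z W
    unfold G4
    rw [st_smul_left, st_smul_left, st_smul_right, st_smul_right, st_smul_right, tf_smul_left, tf_smul_left,
      tf_smul_left, tf_smul_right]
    ring
  rw [h6, G4_eq hX hxz (by omega) (by omega) (by omega) (by omega)] at h4
  have e3 : 4 - hb n + (4 - (n - hb n)) = 8 - n := by have := hb_le n; omega
  rw [e3] at h4
  unfold rowOf
  rw [ev_cons, ev_single, fE_cd x z ha hn]
  push_cast
  have e1 : a + n + d = a + hb n + (n - hb n) + d := by omega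
  rw [e1]
  simp only [pow_add]
  linear_combination -h4

theorem row_c (hX : Xs κ ρ x) (hz : ∀ d ≤ L, tr1 (z d) = 0)
    (hxz : ∀ a ≤ 4, ∀ b ≤ 4, ∀ d ≤ L, tf (st (x a) (x b)) (z d) = 0) {a b c d : ℕ} (ha : a ≤ 4) (hb' : b ≤ 4) (hc : c ≤ 4)
    (hd : d ≤ L) : ev (fE x z) (rowOf L (.c a b c d)) = 0 := by
  unfold rowOf
  rw [ev_cons, ev_cons, ev_single, ← G4_eq hX hxz ha hb' hc hd, ← G4_eq hX hxz hb' ha hc hd, ← G4_eq hX hxz hc ha hb' hd]
  have h2 : (2 : k) ≠ 0 := by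
    have h1 : ((2 : ℕ) : k) ≠ 0 := by
      intro h
      rw [CharP.cast_eq_zero_iff k 7] at h
      omega
    exact_mod_cast h1
  have h3 : (3 : k) ≠ 0 := by
    have h1 : ((3 : ℕ) : k) ≠ 0 := by
      intro h
      rw [CharP.cast_eq_zero_iff k 7] at h
      omega
    exact_mod_cast h1
  have h4 := lin3 h2 h3 (hX.tr a ha) (hX.tr b hb') (hX.tr c hc)
  rw [hX.xx b hb' c hc, hX.xx a ha c hc, hX.xx a ha b hb', zero_smul, zero_smul, zero_smul, add_zero, add_zero, smul_zero] at h4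
  have h5 := congrArg (fun v => tf v (z d)) h4
  simp only [tf_add_left, tf_zero_l] at h5
  unfold G4
  push_cast
  linear_combination h5

theorem row_u (H : Act ρ) (hX : Xs κ ρ x) (hz : Str κ ρ L z)
    (hxz : ∀ a ≤ 4, ∀ b ≤ 4, ∀ d ≤ L, tf (st (x a) (x b)) (z d) = 0) {a n d : ℕ} (ha : a ≤ 4) (hn : n ≤ 8) (hd : d ≤ L) :
    ev (fE x z) (rowOf L (.u a n d)) = 0 := by
  obtain ⟨h1, h2⟩ := hb_sub hn
  have h0 := hb_le n
  have h4 := G4_inv H (Cfsg.Agent.H943.SL2Rel.u 1) (x a) (x (hb n)) (x (n - hb n)) (z d)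
  rw [hX.s.u a ha, hX.s.u _ (hb_le n), hX.s.u _ h1, hz.u d hd] at h4
  simp only [G4_s1, map_one, one_pow, mul_one] at h4
  unfold rowOf rowU
  rw [ev_append, ev_flat, ev_single, fE_cd x z ha hn, ← h4]
  have key : ∀ i ∈ range (4 - a + 1), ev (fE x z) ((List.range (4 - hb n + 1)).flatMap fun j =>
      (List.range (4 - (n - hb n) + 1)).flatMap fun l => (List.range (L - d + 1)).flatMap fun m =>
      [(cd (a + i) (n + j + l) (d + m), ((4 - a).choose i : ℤ) * (((4 - hb n).choose j : ℤ) *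
        (((4 - (n - hb n)).choose l : ℤ) * ((L - d).choose m : ℤ))))]) = ((4 - a).choose i : k) * G4 (x (a + i))
          (∑ j ∈ range (4 - hb n + 1), ((4 - hb n).choose j : k) • x (hb n + j))
          (∑ l ∈ range (4 - (n - hb n) + 1), ((4 - (n - hb n)).choose l : k) • x (n - hb n + l))
          (∑ m ∈ range (L - d + 1), ((L - d).choose m : k) • z (d + m)) := by
    intro i hi
    rw [mem_range] at hi
    rw [ev_flat, G4_s2, mul_sum]
    refine sum_congr rfl fun j hj => ?_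
    rw [mem_range] at hj
    rw [ev_flat, G4_s3, mul_sum, mul_sum]
    refine sum_congr rfl fun l hl => ?_
    rw [mem_range] at hl
    rw [ev_flat, G4_s4, mul_sum, mul_sum, mul_sum]
    refine sum_congr rfl fun m hm => ?_
    rw [mem_range] at hm
    rw [ev_single, G4_eq hX hxz (by omega) (by omega) (by omega) (by omega)]
    have e1 : hb n + j + (n - hb n + l) = n + j + l := by omega
    rw [e1]
    push_cast
    ring
  rw [sum_congr rfl key]
  push_cast
  ring

theorem four_zero_of (H : Act ρ) (hX : Xs κ ρ x) (hz : Str κ ρ L z) (htz : ∀ d ≤ L, tr1 (z d) = 0)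
    (hxz : ∀ a ≤ 4, ∀ b ≤ 4, ∀ d ≤ L, tf (st (x a) (x b)) (z d) = 0) {l : List RowId}
    (hok : (l.all fun i => okId L i) = true) {N : ℕ} (hN : N = 45 * (L + 1))
    (hp : prg 7 (l.map (rowOf L)) 0 = 2 ^ N - 1) {a b c d : ℕ}
    (ha : a ≤ 4) (hb' : b ≤ 4) (hc : c ≤ 4) (hd : d ≤ L) : tf (st (x a) (st (x b) (x c))) (z d) = 0 := by
  have h1 : G4 (x a) (x b) (x c) (z d) = 0 := by
    rw [G4_eq hX hxz ha hb' hc hd]
    refine prg_zero (p := 7) (fE x z) (l.map (rowOf L)) ?_ ?_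
    · intro r hr
      rw [List.mem_map] at hr
      obtain ⟨id, hid, rfl⟩ := hr
      have h2 := List.all_eq_true.1 hok id hid
      cases id with
      | t a n d =>
        simp only [okId, Bool.and_eq_true, decide_eq_true_eq] at h2
        exact row_t H hX hz h2.1.1 h2.1.2 h2.2
      | u a n d =>
        simp only [okId, Bool.and_eq_true, decide_eq_true_eq] at h2
        exact row_u H hX hz hxz h2.1.1 h2.1.2 h2.2
      | w a n d =>
        simp only [okId, Bool.and_eq_true, decide_eq_true_eq] at h2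
        exact row_w H hX hz hxz h2.1.1 h2.1.2 h2.2
      | c a b c d =>
        simp only [okId, Bool.and_eq_true, decide_eq_true_eq] at h2
        exact row_c hX htz hxz h2.1.1.1 h2.1.1.2 h2.1.2 h2.2
    · rw [hp, Nat.testBit_two_pow_sub_one, decide_eq_true_eq, hN]
      unfold cd
      omega
  exact h1

/-- **the four-linear form**, `M` -/
theorem four_zero4 (H : Act ρ) (hX : Xs κ ρ x) (hz : Str κ ρ 4 z) (htz : ∀ d ≤ 4, tr1 (z d) = 0)
    (hxz : ∀ a ≤ 4, ∀ b ≤ 4, ∀ d ≤ 4, tf (st (x a) (x b)) (z d) = 0) {a b c d : ℕ}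
    (ha : a ≤ 4) (hb' : b ≤ 4) (hc : c ≤ 4) (hd : d ≤ 4) : tf (st (x a) (st (x b) (x c))) (z d) = 0 :=
  four_zero_of H hX hz htz hxz ok4 rfl prg4 ha hb' hc hd

/-- **the four-linear form**, `S` -/
theorem four_zero6 (H : Act ρ) (hX : Xs κ ρ x) (hz : Str κ ρ 6 z) (htz : ∀ d ≤ 6, tr1 (z d) = 0)
    (hxz : ∀ a ≤ 4, ∀ b ≤ 4, ∀ d ≤ 6, tf (st (x a) (x b)) (z d) = 0) {a b c d : ℕ}
    (ha : a ≤ 4) (hb' : b ≤ 4) (hc : c ≤ 4) (hd : d ≤ 6) : tf (st (x a) (st (x b) (x c))) (z d) = 0 :=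
  four_zero_of H hX hz htz hxz ok6 rfl prg6 ha hb' hc hd

end str

end Cfsg.Agent.R2.H1.A7
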