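import Cfsg.Agent.R2.H1.A7.S2
import Cfsg.Agent.R2.H1.A7.Four
import Cfsg.Agent.R2.H1.A7.Dat2

/-!
# `p = 7`, step 3: normalisation (helper1, S5931)
-/

set_option autoImplicit false
set_option linter.unusedSectionVars false
set_option linter.unusedSimpArgs false

namespace Cfsg.Agent.R2.H1.A7

open Cfsg Cfsg.Lie Module Cfsg.Agent.H952.F4 Cfsg.Agent.H952.F4.Jord
open Cfsg.Agent.ChevalleyStructure.E6Min.Tables Cfsg.Agent.ChevalleyStructure.E6Min.Basic
open Cfsg.Agent.R2.F4N (Str)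
open Cfsg.Agent.R2.F4L (Act)
open Cfsg.Agent.H952.F4.FixV (W0 mem_W0 finrank_W0 trL tfL tfL_apply tr1_sub tf_sub_left tf_sub_right)
open Cfsg.Agent.R2.H1.F4
open Finset

universe u v w

variable {k : Type u} [Field k] {K : Type w} [Field K] [Fintype K] {κ : K →+* k}
variable {ρ : Representation k (Matrix.SpecialLinearGroup (Fin 2) K) (I27 → k)}
variable {x m v : ℕ → (I27 → k)} [Fact (Nat.Prime 7)] [CharP k 7]

/-- the change of the string `m` -/
theorem Dat.change (D : Dat κ ρ x m v) (r r' e : k) (hr : r ≠ 0) (hr' : r' ≠ 0) :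
    Dat κ ρ x (fun a => r • (m a + e • x a)) (fun a => r' • v a) where
  act := D.act
  sx := D.sx
  sm := str_smul (str_add D.sm (str_smul D.sx e)) r
  sv := str_smul D.sv r'
  tx := D.tx
  tm := fun a ha => by rw [tr1_smul, tr1_add, tr1_smul, D.tm a ha, D.tx a ha]; ring
  tv := fun a ha => by rw [tr1_smul, D.tv a ha, mul_zero]
  x0 := D.x0
  xx := D.xx
  xm := fun a ha b hb' => by
    rw [tf_smul_right, tf_add_right, tf_smul_right, D.xm a ha b hb', D.xx a ha b hb']; ring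
  xv := fun a ha b hb' => by rw [tf_smul_right, D.xv a ha b hb', mul_zero]
  mv := fun a ha b hb' => by
    rw [tf_smul_right, tf_smul_left, tf_add_left, tf_smul_left, D.mv a ha b hb', D.xv a ha b hb']; ring
  mm := by
    rw [tf_smul_right, tf_smul_left, tf_add_left, tf_add_right, tf_add_right, tf_smul_left, tf_smul_right, tf_smul_left,
      tf_smul_right, D.xm 0 (by norm_num) 4 (by norm_num), tf_comm (m 0) (x 4), D.xm 4 (by norm_num) 0 (by norm_num),
      D.xx 0 (by norm_num) 4 (by norm_num)]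
    have h1 : r * (r * (tf (m 0) (m 4) + e * 0 + (e * 0 + e * (e * 0)))) = r * r * tf (m 0) (m 4) := by ring
    rw [h1]
    exact mul_ne_zero (mul_ne_zero hr hr) D.mm
  vv := by
    rw [tf_smul_right, tf_smul_left, ← mul_assoc]
    exact mul_ne_zero (mul_ne_zero hr' hr') D.vv
  s4 := fun s hs hst => by
    obtain ⟨α, β, h⟩ := D.s4 s hs hst
    refine ⟨α - β * e, β * r⁻¹, fun c hc => ?_⟩
    rw [h c hc, smul_smul, mul_assoc, inv_mul_cancel₀ hr]
    module
  s6 := fun s hs hst => by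
    obtain ⟨γ, h⟩ := D.s6 s hs hst
    refine ⟨γ * r'⁻¹, fun c hc => ?_⟩
    rw [h c hc, smul_smul, mul_assoc, inv_mul_cancel₀ hr', mul_one]
  soc := D.soc
  iso := D.iso
  fix := D.fix
  wh := D.wh

/-- the orthogonal complement of everything is zero -/
theorem Dat.rzero (D : Dat κ ρ x m v) (hK : 7 ≤ Fintype.card K) {w : I27 → k} (hw : tr1 w = 0)
    (h1 : ∀ a ≤ 4, ∀ b ≤ 4, tf w (st (x a) (x b)) = 0) (h2 : ∀ a ≤ 4, tf w (m a) = 0) (h3 : ∀ a ≤ 6, tf w (v a) = 0) :
    w = 0 := by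
  let R : Submodule k (I27 → k) :=
    { carrier := {w | tr1 w = 0 ∧ (∀ y ∈ prods x, tf w y = 0) ∧ (∀ y ∈ spx 4 m, tf w y = 0) ∧ ∀ y ∈ spx 6 v, tf w y = 0}
      add_mem' := by
        rintro a b ⟨a1, a2, a3, a4⟩ ⟨b1, b2, b3, b4⟩
        refine ⟨by rw [tr1_add, a1, b1, add_zero], fun y hy => ?_, fun y hy => ?_, fun y hy => ?_⟩
        · rw [tf_add_left, a2 y hy, b2 y hy, add_zero]
        · rw [tf_add_left, a3 y hy, b3 y hy, add_zero]
        · rw [tf_add_left, a4 y hy, b4 y hy, add_zero]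
      zero_mem' := by
        refine ⟨by rw [← zero_smul k (0 : I27 → k), tr1_smul, zero_mul], fun y _ => tf_zl y, fun y _ => tf_zl y,
          fun y _ => tf_zl y⟩
      smul_mem' := by
        rintro c a ⟨a1, a2, a3, a4⟩
        refine ⟨by rw [tr1_smul, a1, mul_zero], fun y hy => ?_, fun y hy => ?_, fun y hy => ?_⟩
        · rw [tf_smul_left, a2 y hy, mul_zero]
        · rw [tf_smul_left, a3 y hy, mul_zero]
        · rw [tf_smul_left, a4 y hy, mul_zero] }
  have hst : ∀ g, ∀ y ∈ R, ρ g y ∈ R := by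
    rintro g y ⟨a1, a2, a3, a4⟩
    have key : ∀ (S : Submodule k (I27 → k)), (∀ g, ∀ z ∈ S, ρ g z ∈ S) → (∀ z ∈ S, tf y z = 0) →
        ∀ z ∈ S, tf (ρ g y) z = 0 := by
      intro S hS h z hz
      have e1 : z = ρ g (ρ g⁻¹ z) := by
        rw [← Module.End.mul_apply, ← map_mul, mul_inv_cancel, map_one, Module.End.one_apply]
      rw [e1, D.act.tf]
      exact h _ (hS _ _ hz)
    exact ⟨by rw [D.act.tr]; exact a1, key _ (fun g => prods_stable D.act D.sx g) a2, key _ (fun g => str_stable D.sm g) a3,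
      key _ (fun g => str_stable D.sv g) a4⟩
  have hR : R = ⊥ := by
    by_contra hne
    obtain ⟨n, hn, s, ss, sR, s0⟩ := D.soc R hst (fun y hy => hy.1) hne
    rcases hn with rfl | rfl
    · obtain ⟨α, β, h⟩ := D.s4 s ss (fun c hc => (sR c hc).1)
      have e0 := (sR 0 (by norm_num)).2.2.1 (m 4) (mem_spx le_rfl)
      rw [h 0 (by norm_num), tf_add_left, tf_smul_left, tf_smul_left, D.xm 0 (by norm_num) 4 le_rfl, mul_zero, zero_add] at e0
      have hβ := (mul_eq_zero.1 e0).resolve_right D.mm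
      have e2 := (sR 2 (by norm_num)).2.1 (st (x 2) (x 2)) (mem_prods (by norm_num) (by norm_num))
      rw [h 2 (by norm_num), hβ, zero_smul, add_zero, tf_smul_left, tf_comm] at e2
      have hα := (mul_eq_zero.1 e2).resolve_right (D.c1_ne hK)
      apply s0
      rw [h 0 (by norm_num), hα, hβ, zero_smul, zero_smul, add_zero]
    · obtain ⟨γ, h⟩ := D.s6 s ss (fun c hc => (sR c hc).1)
      have e0 := (sR 0 (by norm_num)).2.2.2 (v 6) (mem_spx le_rfl)
      rw [h 0 (by norm_num), tf_smul_left] at e0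
      have hγ := (mul_eq_zero.1 e0).resolve_right D.vv
      apply s0
      rw [h 0 (by norm_num), hγ, zero_smul]
  have hwR : w ∈ R := by
    refine ⟨hw, fun y hy => ?_, fun y hy => ?_, fun y hy => ?_⟩
    · have h4 : prods x ≤ LinearMap.ker (tfL k w) := prods_le fun a ha b hb' => by
        rw [LinearMap.mem_ker]; exact h1 a ha b hb'
      exact h4 hy
    · have h4 : spx 4 m ≤ LinearMap.ker (tfL k w) := spx_le fun a ha => by
        rw [LinearMap.mem_ker]; exact h2 a ha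
      exact h4 hy
    · have h4 : spx 6 v ≤ LinearMap.ker (tfL k w) := spx_le fun a ha => by
        rw [LinearMap.mem_ker]; exact h3 a ha
      exact h4 hy
  rw [hR] at hwR
  exact (Submodule.mem_bot k).1 hwR

/-- the projection to a nondegenerate string -/
theorem proj_str (hK : 7 ≤ Fintype.card K) (H : Act ρ) {n : ℕ} (hn : n < 7) {z : ℕ → (I27 → k)} (hz : Str κ ρ n z)
    (h1 : tf (z 0) (z n) = 1) (w : I27 → k) {b : ℕ} (hb' : b ≤ n) :
    tf (∑ a ∈ range (n + 1), ((-1) ^ a * ((n.choose a : ℕ) : k) * tf w (z (n - a))) • z a) (z b) = tf w (z b) := by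
  have h2 : tf (∑ a ∈ range (n + 1), ((-1) ^ a * ((n.choose a : ℕ) : k) * tf w (z (n - a))) • z a) (z b) =
      ∑ a ∈ range (n + 1), (-1) ^ a * tf w (z (n - a)) * (((n.choose a : ℕ) : k) * tf (z a) (z b)) := by
    have h3 : tf (∑ a ∈ range (n + 1), ((-1) ^ a * ((n.choose a : ℕ) : k) * tf w (z (n - a))) • z a) (z b) =
        tfL k (z b) (∑ a ∈ range (n + 1), ((-1) ^ a * ((n.choose a : ℕ) : k) * tf w (z (n - a))) • z a) := by
      rw [tfL_apply, tf_comm]
    rw [h3, map_sum]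
    refine sum_congr rfl fun a _ => ?_
    rw [map_smul, tfL_apply, smul_eq_mul, tf_comm (z b) (z a)]
    ring
  rw [h2, sum_eq_single (n - b)]
  · rw [tf_str_val hK H (n3 k) hz hz hn hn (by omega) hb', if_pos ⟨rfl, by omega⟩, h1, mul_one,
      (by omega : n - (n - b) = b)]
    have h3 : (-1 : k) ^ (n - b) * (-1) ^ (n - b) = 1 := by rw [← mul_pow, neg_one_mul, neg_neg, one_pow]
    linear_combination tf w (z b) * h3
  · intro a ha hne
    rw [mem_range] at ha
    rw [tf_str_val hK H (n3 k) hz hz hn hn (by omega) hb', if_neg (by omega), mul_zero]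
  · intro h
    exact absurd (mem_range.2 (by omega)) h

/-- orthogonality of a combination -/
theorem tf_sum_zero {n : ℕ} {z : ℕ → (I27 → k)} {c : ℕ → k} {y : I27 → k} (h : ∀ a ≤ n, tf (z a) y = 0) :
    tf (∑ a ∈ range (n + 1), c a • z a) y = 0 := by
  have h3 : tf (∑ a ∈ range (n + 1), c a • z a) y = tfL k y (∑ a ∈ range (n + 1), c a • z a) := by
    rw [tfL_apply, tf_comm]
  rw [h3, map_sum]
  refine sum_eq_zero fun a ha => ?_
  rw [mem_range] at ha
  rw [map_smul, tfL_apply, tf_comm, h a (by omega), smul_zero]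

/-- **the normalised data** -/
theorem Dat.exists_dat2 (D : Dat κ ρ x m v) (hK : 7 ≤ Fintype.card K) (hsq : ∀ c : k, ∃ r, r * r = c) :
    ∃ m' v', Dat2 κ ρ x m' v' := by
  obtain ⟨α, hα⟩ := D.hs_eq hK
  obtain ⟨c₀, hc⟩ := tab222 hK D.act D.sx D.sx D.sx
  obtain ⟨g, hg⟩ := tab222 hK D.act D.sx D.sx D.sm
  have hc0 : c₀ ≠ 0 := by
    rintro rfl
    have h1 := hc 2 2 2
    rw [zero_mul] at h1
    have e : ((4 : ℕ).choose 2 : k) ≠ 0 := R2.F4N.choose_ne (p := 7) (by norm_num) (by norm_num)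
    exact D.c1_ne hK ((((mul_eq_zero.1 h1).resolve_left e |> mul_eq_zero.1).resolve_left e |> mul_eq_zero.1).resolve_left e)
  have hch : ∀ a ≤ 4, ((4 : ℕ).choose a : k) ≠ 0 := fun a ha => R2.F4N.choose_ne (p := 7) (by norm_num) ha
  obtain ⟨r, hr⟩ := hsq (tf (m 0) (m 4))⁻¹
  obtain ⟨r', hr'⟩ := hsq (tf (v 0) (v 6))⁻¹
  have hr0 : r ≠ 0 := by
    rintro rfl
    rw [mul_zero] at hr
    exact inv_ne_zero D.mm hr.symm
  have hr0' : r' ≠ 0 := by
    rintro rfl
    rw [mul_zero] at hr'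
    exact inv_ne_zero D.vv hr'.symm
  have D' := D.change r r' (-(g * c₀⁻¹)) hr0 hr0'
  have hm1 : tf (r • (m 0 + (-(g * c₀⁻¹)) • x 0)) (r • (m 4 + (-(g * c₀⁻¹)) • x 4)) = 1 := by
    rw [tf_smul_right, tf_smul_left, tf_add_left, tf_add_right, tf_add_right, tf_smul_left, tf_smul_right, tf_smul_left,
      tf_smul_right, D.xm 0 (by norm_num) 4 (by norm_num), tf_comm (m 0) (x 4), D.xm 4 (by norm_num) 0 (by norm_num),
      D.xx 0 (by norm_num) 4 (by norm_num)]
    have h1 : r * r * tf (m 0) (m 4) = 1 := by rw [hr, inv_mul_cancel₀ D.mm]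
    linear_combination h1
  have hv1 : tf (r' • v 0) (r' • v 6) = 1 := by
    rw [tf_smul_right, tf_smul_left, ← mul_assoc, hr', inv_mul_cancel₀ D.vv]
  have hxxm : ∀ a ≤ 4, ∀ b ≤ 4, ∀ c ≤ 4, tf (st (x a) (x b)) (r • (m c + (-(g * c₀⁻¹)) • x c)) = 0 := by
    intro a ha b hb' c hc'
    have e1 := hc a b c
    have e2 := hg a b c
    rw [tf_smul_right, tf_add_right, tf_smul_right]
    have h1 : ((4 : ℕ).choose a : k) * (((4 : ℕ).choose b : k) * (((4 : ℕ).choose c : k) *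
        (tf (st (x a) (x b)) (m c) + -(g * c₀⁻¹) * tf (st (x a) (x b)) (x c)))) = 0 := by
      have e3 : c₀⁻¹ * c₀ = 1 := inv_mul_cancel₀ hc0
      linear_combination e2 - (g * c₀⁻¹) * e1 - g * (tau 2 2 2 a b c : k) * e3
    rw [((((mul_eq_zero.1 h1).resolve_left (hch a ha) |> mul_eq_zero.1).resolve_left (hch b hb') |>
      mul_eq_zero.1).resolve_left (hch c hc')), mul_zero]
  have hxxv : ∀ a ≤ 4, ∀ b ≤ 4, ∀ c ≤ 6, tf (st (x a) (x b)) (r' • v c) = 0 := fun a ha b hb' c hc' =>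
    tab_anti133 hK D'.act D'.sx D'.sv ha hb' hc'
  have X : Xs κ ρ x := ⟨D.sx, D.tx, D.xx, fun b hb' c hc' => by
    obtain ⟨l, i, hi, e⟩ := md D.hq0 hα b hb' c hc'
    exact ⟨(l * α) • x i, Submodule.smul_mem _ _ (Submodule.subset_span ⟨i, hi, rfl⟩), e⟩⟩
  refine ⟨_, _, ⟨D', hm1, hv1, hxxm, hxxv, D.c1_ne hK,
    fun a ha b hb' c hc' d hd => four_zero4 D'.act X D'.sm D'.tm hxxm ha hb' hc' hd,
    fun a ha b hb' c hc' d hd => four_zero6 D'.act X D'.sv D'.tv hxxv ha hb' hc' hd, ?_⟩⟩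
  intro w hw hwp
  set m' : ℕ → (I27 → k) := fun a => r • (m a + (-(g * c₀⁻¹)) • x a) with hm'
  set v' : ℕ → (I27 → k) := fun a => r' • v a with hv'
  have trsum : ∀ (n : ℕ) (c : ℕ → k) (z : ℕ → (I27 → k)), (∀ a ≤ n, tr1 (z a) = 0) →
      tr1 (∑ a ∈ range (n + 1), c a • z a) = 0 := by
    intro n c z hz
    have h3 : tr1 (∑ a ∈ range (n + 1), c a • z a) = trL k (∑ a ∈ range (n + 1), c a • z a) := rfl
    rw [h3, map_sum]
    refine sum_eq_zero fun a ha => ?_
    rw [mem_range] at ha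
    rw [map_smul]
    change c a • tr1 (z a) = 0
    rw [hz a (by omega), smul_zero]
  rw [← sub_eq_zero]
  refine D'.rzero hK ?_ ?_ ?_ ?_
  · rw [tr1_sub, tr1_add, hw, trsum 4 _ m' D'.tm, trsum 6 _ v' D'.tv]
    ring
  · intro a ha b hb'
    rw [tf_sub_left, tf_add_left, hwp a ha b hb', tf_sum_zero (n := 4) (fun c hc' => by
      rw [tf_comm]; exact hxxm a ha b hb' c hc'), tf_sum_zero (n := 6) (fun c hc' => by
      rw [tf_comm]; exact hxxv a ha b hb' c hc')]
    ring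
  · intro b hb'
    have h1 := proj_str hK D'.act (n := 4) (by norm_num) D'.sm hm1 w hb'
    rw [tf_sub_left, tf_add_left, tf_sum_zero (n := 6) (fun c hc' => by
      rw [tf_comm]; exact D'.mv b hb' c hc'), add_zero, sub_eq_zero]
    exact h1.symm
  · intro b hb'
    have h1 := proj_str hK D'.act (n := 6) (by norm_num) D'.sv hv1 w hb'
    rw [tf_sub_left, tf_add_left, tf_sum_zero (n := 4) (fun c hc' => D'.mv c hc' b hb'), zero_add, sub_eq_zero]
    exact h1.symm

end Cfsg.Agent.R2.H1.A7
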