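import Cfsg.Agent.R2.H1.A7.S3

/-!
# `p = 7`, the end (helper1, S5931)
-/

set_option autoImplicit false
set_option linter.unusedSectionVars false
set_option linter.unusedSimpArgs false

namespace Cfsg.Agent.R2.H1.A7

open Cfsg Cfsg.Lie Module Cfsg.Agent.H952.F4 Cfsg.Agent.H952.F4.Jord
open Cfsg.Agent.ChevalleyStructure.E6Min.Tables Cfsg.Agent.ChevalleyStructure.E6Min.Basic
open Cfsg.Agent.R2.F4N (Str)
open Cfsg.Agent.R2.F4L (Act)
open Cfsg.Agent.H952.F4.FixV (W0 mem_W0 finrank_W0 trL tfL tfL_apply tr1_sub tf_sub_left tf_sub_right)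
open Cfsg.Agent.R2.F4M (Jr Rk R0 Cfg)
open Cfsg.Agent.R2.H1.F4
open Finset

universe u v w

section alg

variable {k : Type u} [Field k] {K : Type w} [Field K] [Fintype K] {κ : K →+* k}
variable {ρ : Representation k (Matrix.SpecialLinearGroup (Fin 2) K) (I27 → k)}
variable {x m v : ℕ → (I27 → k)} [Fact (Nat.Prime 7)] [CharP k 7]

/-- the odd part -/
noncomputable def U (m v : ℕ → (I27 → k)) : Submodule k (I27 → k) := spx 4 m ⊔ spx 6 v

theorem U_m {a : ℕ} (ha : a ≤ 4) : m a ∈ U m v := Submodule.mem_sup_left (mem_spx ha)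

theorem U_v {a : ℕ} (ha : a ≤ 6) : v a ∈ U m v := Submodule.mem_sup_right (mem_spx ha)

theorem U_le {S : Submodule k (I27 → k)} (h4 : ∀ a ≤ 4, m a ∈ S) (h6 : ∀ a ≤ 6, v a ∈ S) : U m v ≤ S :=
  sup_le (spx_le h4) (spx_le h6)

theorem U_ind {l : (I27 → k) →ₗ[k] k} (h4 : ∀ a ≤ 4, l (m a) = 0) (h6 : ∀ a ≤ 6, l (v a) = 0) : ∀ u ∈ U m v, l u = 0 := by
  intro u hu
  have h1 : U m v ≤ LinearMap.ker l := U_le (fun a ha => LinearMap.mem_ker.2 (h4 a ha)) fun a ha => LinearMap.mem_ker.2 (h6 a ha)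
  exact LinearMap.mem_ker.1 (h1 hu)

theorem prods_ind {l : (I27 → k) →ₗ[k] k} (h : ∀ a ≤ 4, ∀ b ≤ 4, l (st (x a) (x b)) = 0) : ∀ u ∈ prods x, l u = 0 := by
  intro u hu
  have h1 : prods x ≤ LinearMap.ker l := prods_le fun a ha b hb' => LinearMap.mem_ker.2 (h a ha b hb')
  exact LinearMap.mem_ker.1 (h1 hu)

theorem Dat2.tU (D : Dat2 κ ρ x m v) : ∀ u ∈ U m v, tr1 u = 0 := U_ind (l := trL k) D.tm D.tv

theorem Dat2.tP (D : Dat2 κ ρ x m v) : ∀ u ∈ prods x, tr1 u = 0 :=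
  prods_ind (l := trL k) fun a ha _ _ => tr1_st (n3 k) (D.tx a ha)

theorem Dat2.orth (D : Dat2 κ ρ x m v) : ∀ y ∈ prods x, ∀ u ∈ U m v, tf y u = 0 := by
  intro y hy u hu
  refine U_ind (l := tfL k y) (fun a ha => ?_) (fun a ha => ?_) u hu <;> rw [tfL_apply, tf_comm, ← tfL_apply] <;>
    refine prods_ind (fun b hb' c hc => ?_) y hy <;> rw [tfL_apply, tf_comm]
  · exact D.xxm b hb' c hc a ha
  · exact D.xxv b hb' c hc a ha

/-- the trilinear vanishing on products -/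
theorem Dat2.ff (D : Dat2 κ ρ x m v) {a b c : ℕ} (ha : a ≤ 4) (hb' : b ≤ 4) (hc : c ≤ 4) : ∀ u ∈ U m v,
    tf (st (x a) (st (x b) (x c))) u = 0 :=
  U_ind (l := tfL k _) (fun d hd => D.f4 a ha b hb' c hc d hd) (fun d hd => D.f6 a ha b hb' c hc d hd)

theorem Dat2.xU (D : Dat2 κ ρ x m v) {a : ℕ} (ha : a ≤ 4) : ∀ u ∈ U m v, tf (x a) u = 0 :=
  U_ind (l := tfL k _) (fun d hd => D.xm a ha d hd) (fun d hd => D.xv a ha d hd)

/-- every functional comes from the form -/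
theorem exists_tf (l : (I27 → k) →ₗ[k] k) : ∃ y, ∀ z, l z = tf y z := by
  have h1 : Function.Injective (tfL k) := by
    intro y z hyz
    rw [← sub_eq_zero]
    refine tf_nondeg fun w => ?_
    have h2 := congrArg (fun l => l w) hyz
    simp only [tfL_apply] at h2
    rw [tf_sub_left, h2, sub_self]
  have h2 : Function.Surjective (tfL k) :=
    (LinearMap.injective_iff_surjective_of_finrank_eq_finrank (Subspace.dual_finrank_eq (K := k) (V := I27 → k)).symm).1 h1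
  obtain ⟨y, rfl⟩ := h2 l
  exact ⟨y, fun z => rfl⟩

/-- the decomposition of the trace-zero part -/
theorem Dat2.dec (D : Dat2 κ ρ x m v) (hK : 7 ≤ Fintype.card K) {w : I27 → k} (hw : tr1 w = 0) :
    ∃ y ∈ prods x, ∃ u ∈ U m v, w = y + u := by
  have htop : (prods x ⊔ U m v) ⊔ Submodule.span k {u0 k} = ⊤ := by
    by_contra hne
    obtain ⟨l, hl0, hl⟩ := Submodule.exists_le_ker_of_lt_top _ (lt_top_iff_ne_top.2 hne)
    obtain ⟨y, hy⟩ := exists_tf l
    have hmem : ∀ z ∈ (prods x ⊔ U m v) ⊔ Submodule.span k {u0 k}, tf y z = 0 := by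
      intro z hz
      rw [← hy]
      exact LinearMap.mem_ker.1 (hl hz)
    have h0 : tr1 y = 0 := by
      rw [← tf_u0_right]
      exact hmem _ (Submodule.mem_sup_right (Submodule.mem_span_singleton_self _))
    have hy0 : y = 0 := D.rzero hK h0
      (fun a ha b hb' => hmem _ (Submodule.mem_sup_left (Submodule.mem_sup_left (mem_prods ha hb'))))
      (fun a ha => hmem _ (Submodule.mem_sup_left (Submodule.mem_sup_right (U_m ha))))
      (fun a ha => hmem _ (Submodule.mem_sup_left (Submodule.mem_sup_right (U_v ha))))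
    apply hl0
    refine LinearMap.ext fun z => ?_
    rw [hy, hy0, tf_zl]
    rfl
  have h1 : w ∈ (prods x ⊔ U m v) ⊔ Submodule.span k {u0 k} := by rw [htop]; trivial
  obtain ⟨w', hw', z, hz, e⟩ := Submodule.mem_sup.1 h1
  obtain ⟨y, hy, u, hu, e'⟩ := Submodule.mem_sup.1 hw'
  obtain ⟨c, rfl⟩ := Submodule.mem_span_singleton.1 hz
  have h2 := congrArg tr1 e
  rw [← e', tr1_add, tr1_add, D.tP y hy, D.tU u hu, tr1_smul, tr1_u0, hw] at h2
  have hc : c = 0 := by
    have h3 : c * 3 = 0 := by linear_combination h2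
    exact (mul_eq_zero.1 h3).resolve_right (n3 k)
  refine ⟨y, hy, u, hu, ?_⟩
  rw [← e, hc, zero_smul, add_zero, e']

/-- the even part is a subalgebra -/
theorem Dat2.even (D : Dat2 κ ρ x m v) (xu : ∀ a ≤ 4, ∀ u ∈ U m v, st (x a) u ∈ U m v) :
    ∀ y ∈ prods x, ∀ z ∈ prods x, ∀ u ∈ U m v, tf (st y z) u = 0 := by
  have key : ∀ a ≤ 4, ∀ b ≤ 4, ∀ c ≤ 4, ∀ d ≤ 4, ∀ u ∈ U m v, tf (st (st (x a) (x b)) (st (x c) (x d))) u = 0 := by
    intro a ha b hb' c hc d hd u hu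
    have tt : tr1 (st (x a) (x b)) = 0 := tr1_st (n3 k) (D.tx a ha)
    have h1 := congrArg (fun w => tf w u) (lin3 (n2 k) (n3 k) tt (D.tx c hc) (D.tx d hd))
    simp only [tf_add_left, tf_smul_left, D.xU hc u hu, D.xU hd u hu, D.xx c hc d hd] at h1
    have h2 : ∀ c ≤ 4, ∀ d ≤ 4, tf (st (x c) (st (st (x a) (x b)) (x d))) u = 0 := by
      intro c hc d hd
      rw [st_comm (x c), tf_st_rot (tr1_st (n3 k) tt) (D.tU u hu), st_comm _ (x d)]
      exact D.ff hd ha hb' _ (xu c hc u hu)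
    rw [h2 c hc d hd, h2 d hd c hc] at h1
    linear_combination h1
  intro y hy z hz u hu
  refine prods_ind (l := (N3 k y).flip u) (fun c hc d hd => ?_) z hz
  rw [LinearMap.flip_apply]
  refine prods_ind (l := ((N3 k).flip (st (x c) (x d))).flip u) (fun a ha b hb' => ?_) y hy
  exact key a ha b hb' c hc d hd u hu

/-- the product of odd elements is even -/
theorem odd (h4 : ∀ a ≤ 4, ∀ b ≤ 4, ∀ c ≤ 4, tf (st (m a) (m b)) (m c) = 0)
    (h5 : ∀ a ≤ 4, ∀ b ≤ 4, ∀ c ≤ 6, tf (st (m a) (m b)) (v c) = 0)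
    (h6 : ∀ a ≤ 4, ∀ b ≤ 6, ∀ c ≤ 6, tf (st (m a) (v b)) (v c) = 0)
    (h7 : ∀ a ≤ 6, ∀ b ≤ 6, ∀ c ≤ 6, tf (st (v a) (v b)) (v c) = 0) (tm : ∀ a ≤ 4, tr1 (m a) = 0) (tv : ∀ a ≤ 6, tr1 (v a) = 0) :
    ∀ y ∈ U m v, ∀ z ∈ U m v, ∀ u ∈ U m v, tf (st y z) u = 0 := by
  have s5 : ∀ a ≤ 4, ∀ b ≤ 6, ∀ c ≤ 4, tf (st (m a) (v b)) (m c) = 0 := by
    intro a ha b hb' c hc
    rw [tf_st_rot (tm a ha) (tm c hc), st_comm, ← tf_st_rot (tm a ha) (tv b hb')]
    exact h5 a ha c hc b hb'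
  have s6 : ∀ a ≤ 6, ∀ b ≤ 6, ∀ c ≤ 4, tf (st (v a) (v b)) (m c) = 0 := by
    intro a ha b hb' c hc
    rw [tf_comm, ← tf_st_rot (tm c hc) (tv b hb')]
    exact h6 c hc a ha b hb'
  have k1 : ∀ a ≤ 4, ∀ z ∈ U m v, ∀ u ∈ U m v, tf (st (m a) z) u = 0 := by
    intro a ha z hz u hu
    refine U_ind (l := tfL k (st (m a) z)) (fun c hc => ?_) (fun c hc => ?_) u hu
    · refine U_ind (l := (N3 k (m a)).flip (m c)) (fun b hb' => h4 a ha b hb' c hc) (fun b hb' => s5 a ha b hb' c hc) z hz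
    · refine U_ind (l := (N3 k (m a)).flip (v c)) (fun b hb' => h5 a ha b hb' c hc) (fun b hb' => h6 a ha b hb' c hc) z hz
  have k2 : ∀ a ≤ 6, ∀ z ∈ U m v, ∀ u ∈ U m v, tf (st (v a) z) u = 0 := by
    intro a ha z hz u hu
    refine U_ind (l := tfL k (st (v a) z)) (fun c hc => ?_) (fun c hc => ?_) u hu
    · refine U_ind (l := (N3 k (v a)).flip (m c)) (fun b hb' => ?_) (fun b hb' => s6 a ha b hb' c hc) z hz
      change tf (st (v a) (m b)) (m c) = 0
      rw [st_comm]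
      exact s5 b hb' a ha c hc
    · refine U_ind (l := (N3 k (v a)).flip (v c)) (fun b hb' => ?_) (fun b hb' => h7 a ha b hb' c hc) z hz
      change tf (st (v a) (m b)) (v c) = 0
      rw [st_comm]
      exact h6 b hb' a ha c hc
  intro y hy z hz u hu
  exact U_ind (l := ((N3 k).flip z).flip u) (fun a ha => k1 a ha z hz u hu) (fun a ha => k2 a ha z hz u hu) y hy

end alg

section main

variable {F : Type u} [Field F] [Fintype F] {K : Type w} [Field K] [Fintype K] {a b : ℕ}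
  {H : Subgroup ↥(chevF4.group F)} {φ : Matrix.ProjectiveSpecialLinearGroup (Fin 2) K →* ↥(chevF4.group F)}
variable {k : Type u} [Field k] {f : F →+* k} [Fact (Nat.Prime 7)] [CharP k 7] {κ : K →+* k} {x m v : ℕ → (I27 → k)}

/-- **the end of the case `p = 7`** -/
theorem no_dat2 (h : Cfg 7 a b H φ) (hK : 7 ≤ Fintype.card K) (D : Dat2 κ (Rk f φ) x m v)
    (xu : ∀ a ≤ 4, ∀ u ∈ U m v, st (x a) u ∈ U m v)
    (h4 : ∀ a ≤ 4, ∀ b ≤ 4, ∀ c ≤ 4, tf (st (m a) (m b)) (m c) = 0)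
    (h5 : ∀ a ≤ 4, ∀ b ≤ 4, ∀ c ≤ 6, tf (st (m a) (m b)) (v c) = 0)
    (h6 : ∀ a ≤ 4, ∀ b ≤ 6, ∀ c ≤ 6, tf (st (m a) (v b)) (v c) = 0)
    (h7 : ∀ a ≤ 6, ∀ b ≤ 6, ∀ c ≤ 6, tf (st (v a) (v b)) (v c) = 0) : False := by
  obtain ⟨s, fr, -⟩ := exists_fr f
  have hρ := Rk_sv φ fr
  have hst : Str (s.comp κ) (Rk f φ) 4 (fun a => sv s (x a)) := str_sv hρ D.sx
  -- the image of `x` is in the span of `x`
  have hx : ∀ a ≤ 4, sv s (x a) ∈ spx 4 x := by
    intro a ha
    refine D.iso (spx 4 fun a => sv s (x a)) (fun g => str_stable hst g) ?_ ?_ (mem_spx (x := fun a => sv s (x a)) ha)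
    · have h1 : spx 4 (fun a => sv s (x a)) ≤ LinearMap.ker (trL k) := spx_le fun b hb' => by
        rw [LinearMap.mem_ker]
        change tr1 (sv s (x b)) = 0
        rw [sv_tr, D.tx b hb', map_zero]
      exact fun y hy => h1 hy
    · intro y hy z hz
      have h1 : ∀ b ≤ 4, ∀ z ∈ spx 4 (fun a => sv s (x a)), tf (sv s (x b)) z = 0 := by
        intro b hb' z hz
        have h2 : spx 4 (fun a => sv s (x a)) ≤ LinearMap.ker (tfL k (sv s (x b))) := spx_le fun c hc => by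
          rw [LinearMap.mem_ker, tfL_apply, sv_tf, D.xx b hb' c hc, map_zero]
        exact h2 hz
      have h3 : spx 4 (fun a => sv s (x a)) ≤ LinearMap.ker (tfL k z) := spx_le fun b hb' => by
        rw [LinearMap.mem_ker, tfL_apply, tf_comm]
        exact h1 b hb' z hz
      have h4 := h3 hy
      rw [LinearMap.mem_ker, tfL_apply, tf_comm] at h4
      exact h4
  have hback : ∀ a ≤ 4, x a ∈ spx 4 (fun a => sv s (x a)) :=
    str_mem_of hK D.sx (by norm_num) (str_stable hst) (v := sv s (x 0)) (mem_spx (x := fun a => sv s (x a)) (Nat.zero_le _))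
      (fun h0 => D.x0 (sv_inj h0)) (hx 0 (Nat.zero_le _))
  -- the two parts are stable
  have sP : ∀ y ∈ prods x, sv s y ∈ prods x := by
    intro y hy
    unfold prods at hy
    induction hy using Submodule.span_induction with
    | mem w hw =>
      obtain ⟨c, hc, d, hd, rfl⟩ := hw
      rw [← sv_st]
      exact st_mem_prods (hx c hc) (hx d hd)
    | zero =>
      have : sv s (0 : I27 → k) = 0 := funext fun _ => map_zero s
      rw [this]
      exact Submodule.zero_mem _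
    | add w w' _ _ ih ih' =>
      rw [sv_add]
      exact Submodule.add_mem _ ih ih'
    | smul r w _ ih =>
      rw [sv_smul]
      exact Submodule.smul_mem _ _ ih
  have sU : ∀ u ∈ U m v, sv s u ∈ U m v := by
    intro u hu
    have h1 : ∀ y ∈ prods (fun a => sv s (x a)), tf (sv s u) y = 0 := by
      refine prods_ind (l := tfL k (sv s u)) fun c hc d hd => ?_
      rw [tfL_apply, sv_st, sv_tf, tf_comm, D.orth _ (mem_prods hc hd) u hu, map_zero]
    have h2 := D.udec (sv s u) (by rw [sv_tr, D.tU u hu, map_zero]) (fun c hc d hd =>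
      h1 _ (st_mem_prods (hback c hc) (hback d hd)))
    rw [h2]
    refine Submodule.add_mem _ (Submodule.sum_mem _ fun c hc => Submodule.smul_mem _ _ (U_m ?_))
      (Submodule.sum_mem _ fun c hc => Submodule.smul_mem _ _ (U_v ?_))
    · rw [mem_range] at hc; omega
    · rw [mem_range] at hc; omega
  have LU : ∀ g, ∀ u ∈ U m v, Rk f φ g u ∈ U m v := by
    intro g
    have h1 : U m v ≤ (U m v).comap (Rk f φ g) := U_le
      (fun a ha => Submodule.mem_sup_left (str_stable D.sm g _ (mem_spx ha)))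
      (fun a ha => Submodule.mem_sup_right (str_stable D.sv g _ (mem_spx ha)))
    exact fun u hu => h1 hu
  have hQ := no_grade h fr (n2 k) (n3 k) (P := prods x) (Q := U m v) D.tP D.tU (fun w hw => D.dec hK hw) D.orth
    (D.even xu) (odd h4 h5 h6 h7 D.tm D.tv) (fun g => prods_stable D.act D.sx g) LU sP sU
  have h8 : v 0 ∈ U m v := U_v (by norm_num)
  rw [hQ, Submodule.mem_bot] at h8
  have h9 := D.v1
  rw [h8, tf_zl] at h9
  exact zero_ne_one h9

end main

end Cfsg.Agent.R2.H1.A7
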