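import Cfsg.Agent.R2.H1.A7.S1

/-!
# `p = 7`, step 1: the Hessian of `x` is a nonzero multiple of `x` (helper1, S5931)
-/

set_option autoImplicit false
set_option linter.unusedSectionVars false
set_option linter.unusedSimpArgs false

namespace Cfsg.Agent.R2.H1.A7

open Cfsg Cfsg.Lie Module Cfsg.Agent.H952.F4 Cfsg.Agent.H952.F4.Jord
open Cfsg.Agent.ChevalleyStructure.E6Min.Tables Cfsg.Agent.ChevalleyStructure.E6Min.Basic
open Cfsg.Agent.R2.F4N (Str)
open Cfsg.Agent.R2.F4L (Act)
open Cfsg.Agent.H952.F4.FixV (W0 mem_W0 finrank_W0 trL tfL tfL_apply tr1_sub tf_sub_left tf_sub_right)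
open Cfsg.Agent.R2.H1.F4
open Finset

universe u v w

section gen

variable {k : Type u} [Field k] {K : Type w} [Field K] [Fintype K] {κ : K →+* k} {W : Type v} [AddCommGroup W] [Module k W]
variable {ρ : Representation k (Matrix.SpecialLinearGroup (Fin 2) K) W}

theorem str_ne {n : ℕ} {x : ℕ → W} (hx : Str κ ρ n x) (hn : n < Fintype.card K) (h0 : x 0 ≠ 0) {a : ℕ} (ha : a ≤ n) :
    x a ≠ 0 := by
  intro h1
  have h2 := str_li hx hn h0 (c := fun b => if b = a then 1 else 0) (by
    rw [sum_eq_single a]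
    · simp only [if_true, one_smul, h1]
    · intro b _ hne
      simp only [if_neg hne, zero_smul]
    · intro h
      exact absurd (mem_range.2 (by omega)) h) a ha
  simp only [if_true] at h2
  exact one_ne_zero h2

/-- a nonzero string in a subspace of small dimension -/
theorem str_finrank {n : ℕ} {x : ℕ → W} (hx : Str κ ρ n x) (hn : n < Fintype.card K) (h0 : x 0 ≠ 0) {Z : Submodule k W}
    [FiniteDimensional k Z] (hZ : ∀ a ≤ n, x a ∈ Z) : n + 1 ≤ finrank k Z := by
  have h1 : LinearIndependent k (fun a : Fin (n + 1) => (⟨x a, hZ a (by omega)⟩ : Z)) := by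
    rw [Fintype.linearIndependent_iff]
    intro g hg i
    have h2 := congrArg (Z.subtype) hg
    rw [map_sum, map_zero] at h2
    simp only [map_smul, Submodule.subtype_apply] at h2
    have h3 := str_li hx hn h0 (c := fun a => if h : a < n + 1 then g ⟨a, h⟩ else 0) (by
      rw [← Fin.sum_univ_eq_sum_range (fun a => (if h : a < n + 1 then g ⟨a, h⟩ else 0) • x a)]
      rw [← h2]
      refine sum_congr rfl fun a _ => ?_
      rw [dif_pos a.2]) i (by omega)
    simp only [dif_pos i.2] at h3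
    exact h3
  have h2 := h1.fintype_card_le_finrank
  rwa [Fintype.card_fin] at h2

end gen

variable {k : Type u} [Field k] {K : Type w} [Field K] [Fintype K] {κ : K →+* k}
variable {ρ : Representation k (Matrix.SpecialLinearGroup (Fin 2) K) (I27 → k)}
variable {x m v : ℕ → (I27 → k)} [Fact (Nat.Prime 7)] [CharP k 7]

theorem wt_eq {c : k} (hc : c ≠ 0) {a : ℕ} (ha : a ≤ 4) : c ^ (a + 2) * c⁻¹ ^ (8 - (a + 2)) = c ^ a * c⁻¹ ^ (4 - a) := by
  have e : 8 - (a + 2) = (4 - a) + 2 := by omega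
  rw [e, pow_add, pow_add, inv_pow c 2]
  field_simp

/-- the products -/
noncomputable def Y (x : ℕ → (I27 → k)) (n : ℕ) : I27 → k := st (x (hb n)) (x (n - hb n))

theorem Y_h (H : Act ρ) (h : Str κ ρ 4 x) {n : ℕ} (hn : n ≤ 8) (t : Kˣ) :
    ρ (Cfsg.Agent.H943.SL2Rel.h t) (Y x n) = (κ t ^ n * ((κ t)⁻¹) ^ (8 - n)) • Y x n := by
  have h1 : hb n ≤ 4 ∧ n - hb n ≤ 4 ∧ hb n ≤ n := by unfold hb; omega
  unfold Y
  rw [← st_inv H, h.h _ h1.1, h.h _ h1.2.1, st_smul_left, st_smul_right, smul_smul]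
  congr 1
  have e1 : κ t ^ n = κ t ^ hb n * κ t ^ (n - hb n) := by rw [← pow_add]; congr 1; omega
  have e2 : (κ t)⁻¹ ^ (8 - n) = (κ t)⁻¹ ^ (4 - hb n) * (κ t)⁻¹ ^ (4 - (n - hb n)) := by
    rw [← pow_add]; congr 1; omega
  rw [e1, e2]
  ring

theorem Y_w (H : Act ρ) (h : Str κ ρ 4 x) (hY : ∀ b ≤ 4, ∀ c ≤ 4, st (x b) (x c) = Y x (b + c)) {n : ℕ} (hn : n ≤ 8) :
    ρ (Cfsg.Agent.H943.SL2Rel.w) (Y x n) = (-1 : k) ^ n • Y x (8 - n) := by
  have h1 : hb n ≤ 4 ∧ n - hb n ≤ 4 ∧ hb n ≤ n := by unfold hb; omega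
  unfold Y
  rw [← st_inv H, h.w _ h1.1, h.w _ h1.2.1, st_smul_left, st_smul_right, smul_smul, ← pow_add, hY _ (by omega) _ (by omega)]
  have e1 : hb n + (n - hb n) = n := by omega
  have e2 : 4 - hb n + (4 - (n - hb n)) = 8 - n := by omega
  rw [e1, e2]
  rfl

/-- the Hessian is not zero -/
theorem Dat.al_ne (D : Dat κ ρ x m v) (hK : 7 ≤ Fintype.card K) {α : k} (hα : ∀ c ≤ 4, hs x c = α • x c) : α ≠ 0 := by
  intro h0
  subst h0
  have hY : ∀ b ≤ 4, ∀ c ≤ 4, st (x b) (x c) = Y x (b + c) := by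
    intro b hb' c hc
    obtain ⟨l, i, _, e⟩ := md D.hq0 hα b hb' c hc
    rw [e, mul_zero, zero_smul, add_zero]
    rfl
  have z := seven_smul (k := k)
  have e00 := hY 0 (by norm_num) 0 (by norm_num)
  have e01 := hY 0 (by norm_num) 1 (by norm_num)
  have e02 := hY 0 (by norm_num) 2 (by norm_num)
  have e03 := hY 0 (by norm_num) 3 (by norm_num)
  have e04 := hY 0 (by norm_num) 4 (by norm_num)
  have e10 := hY 1 (by norm_num) 0 (by norm_num)
  have e11 := hY 1 (by norm_num) 1 (by norm_num)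
  have e12 := hY 1 (by norm_num) 2 (by norm_num)
  have e13 := hY 1 (by norm_num) 3 (by norm_num)
  have e14 := hY 1 (by norm_num) 4 (by norm_num)
  have e20 := hY 2 (by norm_num) 0 (by norm_num)
  have e21 := hY 2 (by norm_num) 1 (by norm_num)
  have e22 := hY 2 (by norm_num) 2 (by norm_num)
  have e23 := hY 2 (by norm_num) 3 (by norm_num)
  have e24 := hY 2 (by norm_num) 4 (by norm_num)
  have e30 := hY 3 (by norm_num) 0 (by norm_num)
  have e31 := hY 3 (by norm_num) 1 (by norm_num)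
  have e32 := hY 3 (by norm_num) 2 (by norm_num)
  have e33 := hY 3 (by norm_num) 3 (by norm_num)
  have e34 := hY 3 (by norm_num) 4 (by norm_num)
  have e40 := hY 4 (by norm_num) 0 (by norm_num)
  have e41 := hY 4 (by norm_num) 1 (by norm_num)
  have e42 := hY 4 (by norm_num) 2 (by norm_num)
  have e43 := hY 4 (by norm_num) 3 (by norm_num)
  have e44 := hY 4 (by norm_num) 4 (by norm_num)
  norm_num at e00 e01 e02 e03 e04 e10 e11 e12 e13 e14 e20 e21 e22 e23 e24 e30 e31 e32 e33 e34 e40 e41 e42 e43 e44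
  have h := D.sx
  -- the action on `Y 0, …, Y 7`
  have u0 : ∀ t, ρ (Cfsg.Agent.H943.SL2Rel.u t) (Y x 0) =
      Y x 0 + κ t • Y x 1 + κ t ^ 7 • Y x 7 + κ t ^ 8 • Y x 8 := by
    intro t
    rw [← e00, ← st_inv D.act, s4u0 h]
    simp only [st_add_left, st_add_right, st_smul_left, st_smul_right, e00, e01, e02, e03, e04, e10, e11, e12, e13, e14, e20,
      e21, e22, e23, e24, e30, e31, e32, e33, e34, e40, e41, e42, e43, e44]
    linear_combination (norm := module) (κ t : k) • z (Y x 1) + (4 * κ t ^ 2) • z (Y x 2) + (8 * κ t ^ 3) • z (Y x 3) +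
      (10 * κ t ^ 4) • z (Y x 4) + (8 * κ t ^ 5) • z (Y x 5) + (4 * κ t ^ 6) • z (Y x 6) + (κ t ^ 7) • z (Y x 7)
  have u1 : ∀ t, ρ (Cfsg.Agent.H943.SL2Rel.u t) (Y x 1) = Y x 1 + κ t ^ 7 • Y x 8 := by
    intro t
    rw [← e01, ← st_inv D.act, s4u0 h, s4u1 h]
    simp only [st_add_left, st_add_right, st_smul_left, st_smul_right, e00, e01, e02, e03, e04, e10, e11, e12, e13, e14, e20,
      e21, e22, e23, e24, e30, e31, e32, e33, e34, e40, e41, e42, e43, e44]
    linear_combination (norm := module) (κ t : k) • z (Y x 2) + (3 * κ t ^ 2) • z (Y x 3) + (5 * κ t ^ 3) • z (Y x 4) +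
      (5 * κ t ^ 4) • z (Y x 5) + (3 * κ t ^ 5) • z (Y x 6) + (κ t ^ 6) • z (Y x 7)
  have u7 : ∀ t, ρ (Cfsg.Agent.H943.SL2Rel.u t) (Y x 7) = Y x 7 + κ t • Y x 8 := by
    intro t
    rw [← e34, ← st_inv D.act, s4u3 h, s4u4 h]
    simp only [st_add_left, st_add_right, st_smul_left, st_smul_right, e34, e44]
  have u8 : ∀ t, ρ (Cfsg.Agent.H943.SL2Rel.u t) (Y x 8) = Y x 8 := by
    intro t
    rw [← e44, ← st_inv D.act, s4u4 h]
  -- the small submodule
  let Z : Submodule k (I27 → k) := Submodule.span k (Set.range ![Y x 0, Y x 1, Y x 7, Y x 8])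
  have m0 : Y x 0 ∈ Z := Submodule.subset_span ⟨0, rfl⟩
  have m1 : Y x 1 ∈ Z := Submodule.subset_span ⟨1, rfl⟩
  have m7 : Y x 7 ∈ Z := Submodule.subset_span ⟨2, rfl⟩
  have m8 : Y x 8 ∈ Z := Submodule.subset_span ⟨3, rfl⟩
  have hZle : ∀ S : Submodule k (I27 → k), Y x 0 ∈ S → Y x 1 ∈ S → Y x 7 ∈ S → Y x 8 ∈ S → Z ≤ S := by
    intro S s0 s1 s7 s8
    rw [Submodule.span_le]
    rintro _ ⟨i, rfl⟩
    fin_cases i
    · exact s0
    · exact s1
    · exact s7
    · exact s8
  have hZst : ∀ g, ∀ y ∈ Z, ρ g y ∈ Z := by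
    intro g
    refine Cfsg.Agent.H943.SL2Rel.induct (P := fun g => ∀ y ∈ Z, ρ g y ∈ Z) ?_ ?_ ?_ ?_ g
    · intro t
      have h1 : Z ≤ Z.comap (ρ (Cfsg.Agent.H943.SL2Rel.u t)) := by
        refine hZle _ ?_ ?_ ?_ ?_ <;> rw [Submodule.mem_comap]
        · rw [u0]
          exact Z.add_mem (Z.add_mem (Z.add_mem m0 (Z.smul_mem _ m1)) (Z.smul_mem _ m7)) (Z.smul_mem _ m8)
        · rw [u1]
          exact Z.add_mem m1 (Z.smul_mem _ m8)
        · rw [u7]
          exact Z.add_mem m7 (Z.smul_mem _ m8)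
        · rw [u8]
          exact m8
      exact fun y hy => h1 hy
    · intro t
      have h1 : Z ≤ Z.comap (ρ (Cfsg.Agent.H943.SL2Rel.h t)) := by
        refine hZle _ ?_ ?_ ?_ ?_ <;> rw [Submodule.mem_comap, Y_h D.act h (by norm_num)]
        · exact Z.smul_mem _ m0
        · exact Z.smul_mem _ m1
        · exact Z.smul_mem _ m7
        · exact Z.smul_mem _ m8
      exact fun y hy => h1 hy
    · have h1 : Z ≤ Z.comap (ρ (Cfsg.Agent.H943.SL2Rel.w)) := by
        refine hZle _ ?_ ?_ ?_ ?_ <;> rw [Submodule.mem_comap, Y_w D.act h hY (by norm_num)]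
        · exact Z.smul_mem _ m8
        · exact Z.smul_mem _ m7
        · exact Z.smul_mem _ m1
        · exact Z.smul_mem _ m0
      exact fun y hy => h1 hy
    · intro g g' e e' y hy
      rw [map_mul, Module.End.mul_apply]
      exact e _ (e' _ hy)
  have tY : ∀ n ≤ 8, tr1 (Y x n) = 0 := by
    intro n hn
    exact tr1_st (n3 k) (D.tx _ (Nat.min_le_right _ _))
  have hZt : ∀ y ∈ Z, tr1 y = 0 := by
    have h1 : Z ≤ LinearMap.ker (trL k) := by
      refine hZle _ ?_ ?_ ?_ ?_ <;> rw [LinearMap.mem_ker] <;> exact tY _ (by norm_num)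
    exact fun y hy => h1 hy
  have hZ0 : Z = ⊥ := by
    by_contra hne
    obtain ⟨n, hn, s, ss, sZ, s0⟩ := D.soc Z hZst hZt hne
    have h1 : n + 1 ≤ finrank k Z := str_finrank ss (by omega) s0 sZ
    have h2 : finrank k Z ≤ 4 := by
      have := finrank_range_le_card (R := k) ![Y x 0, Y x 1, Y x 7, Y x 8]
      rwa [Fintype.card_fin] at this
    omega
  have z0 : Y x 0 = 0 := by rw [hZ0] at m0; exact (Submodule.mem_bot k).1 m0
  have z1 : Y x 1 = 0 := by rw [hZ0] at m1; exact (Submodule.mem_bot k).1 m1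
  have z7 : Y x 7 = 0 := by rw [hZ0] at m7; exact (Submodule.mem_bot k).1 m7
  have z8 : Y x 8 = 0 := by rw [hZ0] at m8; exact (Submodule.mem_bot k).1 m8
  -- the string
  let s : ℕ → (I27 → k) := fun a => match a with
    | 0 => Y x 2
    | 1 => (5 : k) • Y x 3
    | 2 => (6 : k) • Y x 4
    | 3 => (5 : k) • Y x 5
    | _ => Y x 6
  have hsS : Str κ ρ 4 s := by
    refine str_of4 ?_ ?_ ?_ ?_ ?_ ?_ ?_
    · intro t
      change ρ _ (Y x 2) = Y x 2 + (4 * κ t) • (5 : k) • Y x 3 + (6 * κ t ^ 2) • (6 : k) • Y x 4 +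
        (4 * κ t ^ 3) • (5 : k) • Y x 5 + κ t ^ 4 • Y x 6
      rw [← e02, ← st_inv D.act, s4u0 h, s4u2 h]
      simp only [st_add_left, st_add_right, st_smul_left, st_smul_right, e00, e01, e02, e03, e04, e10, e11, e12, e13, e14,
        e20, e21, e22, e23, e24, e30, e31, e32, e33, e34, e40, e41, e42, e43, e44, z7, z8]
      linear_combination (norm := module) (-2 * κ t : k) • z (Y x 3) + (-3 * κ t ^ 2) • z (Y x 4) +
        (2 * κ t ^ 4) • z (Y x 6)
    · intro t
      change ρ _ ((5 : k) • Y x 3) = (5 : k) • Y x 3 + (3 * κ t) • (6 : k) • Y x 4 + (3 * κ t ^ 2) • (5 : k) • Y x 5 +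
        (κ t ^ 3) • Y x 6
      rw [← e03, map_smul, ← st_inv D.act, s4u0 h, s4u3 h]
      simp only [st_add_left, st_add_right, st_smul_left, st_smul_right, e00, e01, e02, e03, e04, e10, e11, e12, e13, e14,
        e20, e21, e22, e23, e24, e30, e31, e32, e33, e34, e40, e41, e42, e43, e44, z7, z8]
      linear_combination (norm := module) (κ t : k) • z (Y x 4) + (5 * κ t ^ 2) • z (Y x 5) + (7 * κ t ^ 3) • z (Y x 6)
    · intro t
      change ρ _ ((6 : k) • Y x 4) = (6 : k) • Y x 4 + (2 * κ t) • (5 : k) • Y x 5 + (κ t ^ 2) • Y x 6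
      rw [← e04, map_smul, ← st_inv D.act, s4u0 h, s4u4 h]
      simp only [st_add_left, st_add_right, st_smul_left, st_smul_right, e00, e01, e02, e03, e04, e10, e11, e12, e13, e14,
        e20, e21, e22, e23, e24, e30, e31, e32, e33, e34, e40, e41, e42, e43, e44, z7, z8]
      linear_combination (norm := module) (2 * κ t : k) • z (Y x 5) + (5 * κ t ^ 2) • z (Y x 6)
    · intro t
      change ρ _ ((5 : k) • Y x 5) = (5 : k) • Y x 5 + κ t • Y x 6
      rw [← e14, map_smul, ← st_inv D.act, s4u1 h, s4u4 h]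
      simp only [st_add_left, st_add_right, st_smul_left, st_smul_right, e00, e01, e02, e03, e04, e10, e11, e12, e13, e14,
        e20, e21, e22, e23, e24, e30, e31, e32, e33, e34, e40, e41, e42, e43, e44, z7, z8]
      linear_combination (norm := module) (2 * κ t : k) • z (Y x 6)
    · intro t
      change ρ _ (Y x 6) = Y x 6
      rw [← e24, ← st_inv D.act, s4u2 h, s4u4 h]
      simp only [st_add_left, st_add_right, st_smul_left, st_smul_right, e00, e01, e02, e03, e04, e10, e11, e12, e13, e14,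
        e20, e21, e22, e23, e24, e30, e31, e32, e33, e34, e40, e41, e42, e43, e44, z7, z8, smul_zero, add_zero]
    · intro a ha t
      have ht : κ t ≠ 0 := (map_ne_zero κ).2 t.ne_zero
      interval_cases a
      · change ρ _ (Y x 2) = _ • Y x 2
        rw [Y_h D.act h (by norm_num)]
        congr 1
        exact wt_eq ht (a := 0) (by norm_num)
      · change ρ _ ((5 : k) • Y x 3) = _ • (5 : k) • Y x 3
        rw [map_smul, Y_h D.act h (by norm_num), smul_comm]
        congr 1
        exact wt_eq ht (a := 1) (by norm_num)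
      · change ρ _ ((6 : k) • Y x 4) = _ • (6 : k) • Y x 4
        rw [map_smul, Y_h D.act h (by norm_num), smul_comm]
        congr 1
        exact wt_eq ht (a := 2) (by norm_num)
      · change ρ _ ((5 : k) • Y x 5) = _ • (5 : k) • Y x 5
        rw [map_smul, Y_h D.act h (by norm_num), smul_comm]
        congr 1
        exact wt_eq ht (a := 3) (by norm_num)
      · change ρ _ (Y x 6) = _ • Y x 6
        rw [Y_h D.act h (by norm_num)]
        congr 1
        exact wt_eq ht (a := 4) (by norm_num)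
    · intro a ha
      interval_cases a
      · change ρ _ (Y x 2) = _ • Y x 6
        rw [Y_w D.act h hY (by norm_num)]
        norm_num
      · change ρ _ ((5 : k) • Y x 3) = _ • (5 : k) • Y x 5
        rw [map_smul, Y_w D.act h hY (by norm_num)]
        norm_num
      · change ρ _ ((6 : k) • Y x 4) = _ • (6 : k) • Y x 4
        rw [map_smul, Y_w D.act h hY (by norm_num)]
        norm_num
      · change ρ _ ((5 : k) • Y x 5) = _ • (5 : k) • Y x 3
        rw [map_smul, Y_w D.act h hY (by norm_num)]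
        norm_num
      · change ρ _ (Y x 6) = _ • Y x 2
        rw [Y_w D.act h hY (by norm_num)]
        norm_num
  obtain ⟨α, β, hαβ⟩ := D.s4 s hsS (fun c hc => by
    interval_cases c
    · exact tY 2 (by norm_num)
    · change tr1 ((5 : k) • Y x 3) = 0
      rw [tr1_smul, tY 3 (by norm_num), mul_zero]
    · change tr1 ((6 : k) • Y x 4) = 0
      rw [tr1_smul, tY 4 (by norm_num), mul_zero]
    · change tr1 ((5 : k) • Y x 5) = 0
      rw [tr1_smul, tY 5 (by norm_num), mul_zero]
    · exact tY 6 (by norm_num))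
  have hx2 := D.tx 2 (by norm_num)
  -- `T(Y 4, Y 4) = 0`
  have h44 : tf (Y x 4) (Y x 4) = 0 := by
    have h1 := four (n2 k) (n3 k) hx2 hx2 hx2 hx2
    rw [e22, D.xx 2 (by norm_num) 2 (by norm_num)] at h1
    have h3 : (3 : k) * tf (Y x 4) (Y x 4) = 0 := by linear_combination h1
    exact (mul_eq_zero.1 h3).resolve_left (n3 k)
  have hs2 : (6 : k) • Y x 4 = α • x 2 + β • m 2 := hαβ 2 (by norm_num)
  have hm2 : tf (m 2) (m 2) ≠ 0 := by
    intro h1
    have h2 := tf_str_val hK D.act (n3 k) D.sm D.sm (by norm_num) (by norm_num) (a := 2) (c := 2) (by norm_num) (by norm_num)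
    rw [h1] at h2
    norm_num at h2
    exact D.mm h2.symm
  have hβ : β = 0 := by
    have h1 := congrArg (fun y => tf y y) hs2
    simp only [tf_add_left, tf_add_right, tf_smul_left, tf_smul_right, h44, D.xx 2 (by norm_num) 2 (by norm_num),
      D.xm 2 (by norm_num) 2 (by norm_num), tf_comm (m 2) (x 2)] at h1
    have h3 : β * β * tf (m 2) (m 2) = 0 := by linear_combination -h1
    have h4 := (mul_eq_zero.1 h3).resolve_right hm2
    exact mul_self_eq_zero.1 h4
  subst hβ
  have hcard : 4 < Fintype.card K := by omega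
  have hα0 : α = 0 := by
    have h1 := st_cube (n2 k) (n3 k) hx2
    rw [e22, D.xx 2 (by norm_num) 2 (by norm_num), mul_zero, zero_smul] at h1
    have h2 := congrArg (fun y => st (x 2) y) hs2
    simp only [st_smul_right, st_add_right, h1, smul_zero, zero_smul, add_zero] at h2
    rw [e22] at h2
    have h3 := congrArg (fun y => (6 : k) • y) h2
    simp only [smul_zero] at h3
    rw [smul_comm, hs2, zero_smul, add_zero, smul_smul] at h3
    have h4 := (smul_eq_zero.1 h3.symm).resolve_right (str_ne D.sx hcard D.x0 (by norm_num))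
    exact mul_self_eq_zero.1 h4
  subst hα0
  have hz : ∀ c ≤ 4, s c = 0 := fun c hc => by rw [hαβ c hc, zero_smul, zero_smul, add_zero]
  have y2 : Y x 2 = 0 := hz 0 (by norm_num)
  have y3 : Y x 3 = 0 := (smul_eq_zero.1 (hz 1 (by norm_num))).resolve_left (n5 k)
  have y4 : Y x 4 = 0 := (smul_eq_zero.1 (hz 2 (by norm_num))).resolve_left (n6 k)
  have y5 : Y x 5 = 0 := (smul_eq_zero.1 (hz 3 (by norm_num))).resolve_left (n5 k)
  have y6 : Y x 6 = 0 := hz 4 (by norm_num)
  obtain ⟨a, ha, b, hb', hab⟩ := D.wh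
  apply hab
  rw [hY a ha b hb']
  have h9 : a + b ≤ 8 := by omega
  generalize a + b = n at h9
  interval_cases n
  · exact z0
  · exact z1
  · exact y2
  · exact y3
  · exact y4
  · exact y5
  · exact y6
  · exact z7
  · exact z8

end Cfsg.Agent.R2.H1.A7
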