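import Cfsg.Agent.R2.F4L.A7Dat0
import Cfsg.Agent.R2.H5.U7
import Cfsg.Agent.R2.H1.A7.S3
import Cfsg.Agent.R2.H1.A7.S8

/-!
# `p = 7`: the case `T(8) + 4 + 6` does not occur (helper1, S5931)

* `no_dat` : no data `Dat`;
* `no_alpha7` : the hypothesis `hA` of `F4T.fin5`.
-/

set_option autoImplicit false
set_option linter.unusedSectionVars false

namespace Cfsg.Agent.R2.H1.A7

open Cfsg Cfsg.Lie Module Matrix
open Cfsg.Agent.ChevalleyStructure.E6Min.Basic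
open Cfsg.Agent.H952.F4 Cfsg.Agent.H952.F4.Jord
open Cfsg.Agent.H952.F4.FixV (W0 mem_W0 finrank_W0 u0_ne_zero)
open Cfsg.Agent.R2.F4M
open Cfsg.Agent.R2.H28.SL2 Cfsg.Agent.H943.RepAdd
open Cfsg.Agent.R2.F4L (Cx Em)
open Cfsg.Agent.R2.F4T

universe u v

variable {F : Type u} [Field F] [Fintype F] {K : Type v} [Field K] [Fintype K]

/-- **no data** -/
theorem no_dat {a b : ℕ} {H : Subgroup ↥(chevF4.group F)}
    {φ : ProjectiveSpecialLinearGroup (Fin 2) K →* ↥(chevF4.group F)} {k : Type u} [Field k] [IsAlgClosed k]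
    [Fact (Nat.Prime 7)] [CharP k 7] {f : F →+* k} (h : Cfg 7 a b H φ) {κ : K →+* k} {x m v : ℕ → (I27 → k)}
    (D : Dat κ (Rk f φ) x m v) : False := by
  have hK : 7 ≤ Fintype.card K := by
    rw [h.cardK]
    exact Nat.le_self_pow (by have := h.ha; omega) 7
  have hsq : ∀ c : k, ∃ r, r * r = c := by
    intro c
    obtain ⟨r, hr⟩ := IsAlgClosed.exists_pow_nat_eq c (n := 2) (by norm_num)
    exact ⟨r, by rw [← hr]; ring⟩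
  obtain ⟨m', v', D2⟩ := D.exists_dat2 hK hsq
  obtain ⟨h4, h5, h6, h7⟩ := H5.U7.u7 D2 hK
  exact no_dat2 h hK D2 (H5.U7.xu' D2) h4 h5 h6 h7

variable {p a b : ℕ}
variable {H : Subgroup ↥(chevF4.group F)} {φ : ProjectiveSpecialLinearGroup (Fin 2) K →* ↥(chevF4.group F)}
variable {k : Type u} [Field k] [DecidableEq k] [DecidableEq K] [IsAlgClosed k]
variable [Fact p.Prime] [CharP k p] [CharP K p] {ι : K →+* k} (f : F →+* k)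

/-- **the case does not occur** (hypothesis `hA` of `F4T.fin5`) -/
theorem no_alpha7 (h : Cfg p a b H φ) (C : Cx ι p a (Rk f φ)) : p = 7 → ∀ r < a, ∀ (Y M T X : Submodule k ↥(W0 k)) (_ : ∀ g, ∀ x ∈ Y, R0 f φ g x ∈ Y)
      (hM : ∀ g, ∀ x ∈ M, R0 f φ g x ∈ M) (hT : ∀ g, ∀ x ∈ T, R0 f φ g x ∈ T) (hX : ∀ g, ∀ x ∈ X, R0 f φ g x ∈ X),
      Nd (tf0 k) Y → Nd (tf0 k) M → Nd (tf0 k) T → (∀ x ∈ Y, ∀ y ∈ M, tf0 k x y = 0) →
      (∀ x ∈ Y, ∀ y ∈ T, tf0 k x y = 0) → (∀ x ∈ M, ∀ y ∈ T, tf0 k x y = 0) → Y ⊔ M ⊔ T = ⊤ →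
      IsV (V := ↥M) ι p (subRep (R0 f φ) M hM) (4 * p ^ r) → IsV (V := ↥T) ι p (subRep (R0 f φ) T hT) (6 * p ^ r) →
      X ≤ Y → IsV (V := ↥X) ι p (subRep (R0 f φ) X hX) (4 * p ^ r) → Iso (tf0 k) X →
      (∀ (Z : Submodule k ↥(W0 k)) (hZ : ∀ g, ∀ x ∈ Z, R0 f φ g x ∈ Z) (c : ℕ),
        IsV (V := ↥Z) ι p (subRep (R0 f φ) Z hZ) c → Z ≤ Y → Z = X) → Module.finrank k Y = 14 →
      (cf (Sy.{u, u, v} ι p) (R0 f φ)).count (4 * p ^ r) = 3 →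
      (cf (Sy.{u, u, v} ι p) (R0 f φ)).count (6 * p ^ r) = 1 →
      (∀ c, c ≠ 4 * p ^ r → (cf (Sy.{u, u, v} ι p) (R0 f φ)).count c ≤ 1) → False := by
  intro hp r _ Y M T X _ hM hT hX _ hMn hTn hYM hYT hMT hsup hMV hTV hXY hXV hXi hu _ h4 _ hc1
  obtain ⟨x, m, v, D⟩ := R2.F4L.A7.dat0 f h C hp r Y M T X hM hT hX hMn hTn hYM hYT hMT hsup hMV hTV hXY hXV hXi hu h4 hc1
  subst hp
  exact no_dat h D

end Cfsg.Agent.R2.H1.A7
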