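import Cfsg.Agent.R2.H1.F4.StrIrr

/-!
# The data of the case `T(8) + 4 + 6`, `p = 7` (helper1, S5931)
-/

set_option autoImplicit false
set_option linter.unusedSectionVars false

namespace Cfsg.Agent.R2.H1.A7

open Cfsg Cfsg.Lie Module Cfsg.Agent.H952.F4 Cfsg.Agent.H952.F4.Jord
open Cfsg.Agent.ChevalleyStructure.E6Min.Tables Cfsg.Agent.ChevalleyStructure.E6Min.Basic
open Cfsg.Agent.R2.F4N (Str)
open Cfsg.Agent.R2.F4L (Act)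
open Cfsg.Agent.R2.H1.F4

universe u v w

/-- the span of a string -/
def spx {k : Type u} [Field k] (n : ℕ) (x : ℕ → (I27 → k)) : Submodule k (I27 → k) :=
  Submodule.span k {w | ∃ a, a ≤ n ∧ w = x a}

/-- the data: `x` generates the isotropic `4`, `m` the nondegenerate `4`, `v` the `6` -/
structure Dat {k : Type u} [Field k] {K : Type w} [Field K] [Fintype K] (κ : K →+* k)
    (ρ : Representation k (Matrix.SpecialLinearGroup (Fin 2) K) (I27 → k)) (x m v : ℕ → (I27 → k)) : Prop where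
  act : Act ρ
  sx : Str κ ρ 4 x
  sm : Str κ ρ 4 m
  sv : Str κ ρ 6 v
  tx : ∀ a ≤ 4, tr1 (x a) = 0
  tm : ∀ a ≤ 4, tr1 (m a) = 0
  tv : ∀ a ≤ 6, tr1 (v a) = 0
  x0 : x 0 ≠ 0
  xx : ∀ a ≤ 4, ∀ b ≤ 4, tf (x a) (x b) = 0
  xm : ∀ a ≤ 4, ∀ b ≤ 4, tf (x a) (m b) = 0
  xv : ∀ a ≤ 4, ∀ b ≤ 6, tf (x a) (v b) = 0
  mv : ∀ a ≤ 4, ∀ b ≤ 6, tf (m a) (v b) = 0
  mm : tf (m 0) (m 4) ≠ 0
  vv : tf (v 0) (v 6) ≠ 0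
  /-- strings of length 4 -/
  s4 : ∀ s, Str κ ρ 4 s → (∀ c ≤ 4, tr1 (s c) = 0) → ∃ α β : k, ∀ c ≤ 4, s c = α • x c + β • m c
  /-- strings of length 6 -/
  s6 : ∀ s, Str κ ρ 6 s → (∀ c ≤ 6, tr1 (s c) = 0) → ∃ γ : k, ∀ c ≤ 6, s c = γ • v c
  /-- every nonzero stable subspace of `J0` contains a string -/
  soc : ∀ Z : Submodule k (I27 → k), (∀ g, ∀ y ∈ Z, ρ g y ∈ Z) → (∀ y ∈ Z, tr1 y = 0) → Z ≠ ⊥ →
    ∃ n, (n = 4 ∨ n = 6) ∧ ∃ s, Str κ ρ n s ∧ (∀ c ≤ n, s c ∈ Z) ∧ s 0 ≠ 0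
  /-- isotropic stable subspaces -/
  iso : ∀ Z : Submodule k (I27 → k), (∀ g, ∀ y ∈ Z, ρ g y ∈ Z) → (∀ y ∈ Z, tr1 y = 0) →
    (∀ y ∈ Z, ∀ z ∈ Z, tf y z = 0) → Z ≤ spx 4 x
  fix : ∀ y, tr1 y = 0 → (∀ g, ρ g y = y) → y = 0
  wh : ∃ a ≤ 4, ∃ b ≤ 4, st (x a) (x b) ≠ 0

end Cfsg.Agent.R2.H1.A7
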