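import Cfsg.Agent.R2.H1.A7.RowsB
import Cfsg.Agent.R2.H1.A7.S1b

/-!
# `p = 7`, the products of `x` are not all isotropic (helper1, S5931)
-/

set_option autoImplicit false
set_option linter.unusedSectionVars false
set_option linter.unusedSimpArgs false

namespace Cfsg.Agent.R2.H1.A7

open Cfsg Cfsg.Lie Module Cfsg.Agent.H952.F4 Cfsg.Agent.H952.F4.Jord
open Cfsg.Agent.ChevalleyStructure.E6Min.Tables Cfsg.Agent.ChevalleyStructure.E6Min.Basic
open Cfsg.Agent.R2.F4N (Str)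
open Cfsg.Agent.R2.F4L (Act)
open Cfsg.Agent.H952.F4.FixV (W0 mem_W0 finrank_W0 trL tfL tfL_apply tr1_sub tf_sub_left tf_sub_right)
open Cfsg.Agent.R2.H1.F4
open Finset

universe u v w

section lin

variable {k : Type u} [Field k]

theorem tf_zl (y : I27 → k) : tf (0 : I27 → k) y = 0 := by
  have := tf_smul_left (0 : k) (0 : I27 → k) y
  rwa [zero_smul, zero_mul] at this

theorem st_zl (y : I27 → k) : st (0 : I27 → k) y = 0 := by
  have := st_smul_left (0 : k) (0 : I27 → k) y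
  rwa [zero_smul, zero_smul] at this

theorem st_zr (y : I27 → k) : st y (0 : I27 → k) = 0 := by rw [st_comm, st_zl]

/-- the form on products -/
noncomputable def P4 (x y z w : I27 → k) : k := tf (st x y) (st z w)

theorem P4_s1 {ι : Type*} (s : Finset ι) (c : ι → k) (x : ι → (I27 → k)) (y z w : I27 → k) :
    P4 (∑ i ∈ s, c i • x i) y z w = ∑ i ∈ s, c i * P4 (x i) y z w := by
  classical
  induction s using Finset.induction_on with
  | empty => simp only [sum_empty]; unfold P4; rw [st_zl, tf_zl]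
  | insert a s ha ih =>
    rw [sum_insert ha, sum_insert ha, ← ih]
    unfold P4
    rw [st_add_left, tf_add_left, st_smul_left, tf_smul_left]

theorem P4_s2 {ι : Type*} (s : Finset ι) (c : ι → k) (y : ι → (I27 → k)) (x z w : I27 → k) :
    P4 x (∑ i ∈ s, c i • y i) z w = ∑ i ∈ s, c i * P4 x (y i) z w := by
  have h : ∀ y, P4 x y z w = P4 y x z w := fun y => by unfold P4; rw [st_comm x y]
  rw [h, P4_s1]
  exact sum_congr rfl fun i _ => by rw [h]

theorem P4_sw (x y z w : I27 → k) : P4 x y z w = P4 z w x y := by unfold P4; rw [tf_comm]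

theorem P4_s3 {ι : Type*} (s : Finset ι) (c : ι → k) (z : ι → (I27 → k)) (x y w : I27 → k) :
    P4 x y (∑ i ∈ s, c i • z i) w = ∑ i ∈ s, c i * P4 x y (z i) w := by
  rw [P4_sw, P4_s1]
  exact sum_congr rfl fun i _ => by rw [P4_sw]

theorem P4_s4 {ι : Type*} (s : Finset ι) (c : ι → k) (w : ι → (I27 → k)) (x y z : I27 → k) :
    P4 x y z (∑ i ∈ s, c i • w i) = ∑ i ∈ s, c i * P4 x y z (w i) := by
  rw [P4_sw, P4_s2]
  exact sum_congr rfl fun i _ => by rw [P4_sw]

theorem P4_smul (α β γ δ : k) (X Y Z W : I27 → k) : P4 (α • X) (β • Y) (γ • Z) (δ • W) = α * β * γ * δ * P4 X Y Z W := by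
  unfold P4
  rw [st_smul_left, st_smul_right, st_smul_left, st_smul_right, tf_smul_left, tf_smul_left, tf_smul_right, tf_smul_right]
  ring

end lin

variable {k : Type u} [Field k] {K : Type w} [Field K] [Fintype K] {κ : K →+* k}
variable {ρ : Representation k (Matrix.SpecialLinearGroup (Fin 2) K) (I27 → k)}
variable {x m v : ℕ → (I27 → k)} [Fact (Nat.Prime 7)] [CharP k 7]

theorem P4_inv (H : Act ρ) (g : Matrix.SpecialLinearGroup (Fin 2) K) (x y z w : I27 → k) :
    P4 (ρ g x) (ρ g y) (ρ g z) (ρ g w) = P4 x y z w := by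
  unfold P4
  rw [st_inv H, st_inv H, H.tf]

/-- the values -/
noncomputable def fB (x : ℕ → (I27 → k)) (i : ℕ) : k := tf (Y x (i % 9)) (Y x (i / 9))

theorem fB_cd {n m : ℕ} (hn : n ≤ 8) : fB x (cdB n m) = tf (Y x n) (Y x m) := by
  unfold fB cdB
  have h1 : (n + 9 * m) % 9 = n := by omega
  have h2 : (n + 9 * m) / 9 = m := by omega
  rw [h1, h2]

theorem hb_spec {n : ℕ} (hn : n ≤ 8) : hb n ≤ 4 ∧ n - hb n ≤ 4 ∧ hb n + (n - hb n) = n := by
  unfold hb
  omega

/-- the hypotheses -/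
structure HB (κ : K →+* k) (ρ : Representation k (Matrix.SpecialLinearGroup (Fin 2) K) (I27 → k)) (x : ℕ → (I27 → k)) :
    Prop where
  act : Act ρ
  s : Str κ ρ 4 x
  tr : ∀ a ≤ 4, tr1 (x a) = 0
  xx : ∀ a ≤ 4, ∀ b ≤ 4, tf (x a) (x b) = 0
  xxx : ∀ a ≤ 4, ∀ b ≤ 4, ∀ c ≤ 4, tf (st (x a) (x b)) (x c) = 0
  md : ∀ b ≤ 4, ∀ c ≤ 4, ∃ l : k, ∃ i ≤ 4, st (x b) (x c) = Y x (b + c) + l • x i

theorem HB.eq (H : HB κ ρ x) {a b c d : ℕ} (ha : a ≤ 4) (hb' : b ≤ 4) (hc : c ≤ 4) (hd : d ≤ 4) :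
    P4 (x a) (x b) (x c) (x d) = fB x (cdB (a + b) (c + d)) := by
  rw [fB_cd (by omega)]
  unfold P4
  obtain ⟨l, i, hi, e⟩ := H.md a ha b hb'
  rw [e, tf_add_left, tf_smul_left, tf_comm (x i), H.xxx c hc d hd i hi, mul_zero, add_zero]
  obtain ⟨l', i', hi', e'⟩ := H.md c hc d hd
  rw [e', tf_add_right, tf_smul_right]
  have h1 := hb_spec (n := a + b) (by omega)
  have h2 : tf (Y x (a + b)) (x i') = 0 := H.xxx _ h1.1 _ h1.2.1 i' hi'
  rw [h2, mul_zero, add_zero]

theorem inv3 : ((3 : k))⁻¹ = 5 := inv_eq_of_mul_eq_one_right (by linear_combination 2 * sv7 k)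

theorem HB.row_t (H : HB κ ρ x) {n m : ℕ} (hn : n ≤ 8) (hm : m ≤ 8) : ev (fB x) (rowB (.t n m)) = 0 := by
  have hcK : CharP K 7 := (κ.charP_iff κ.injective 7).2 inferInstance
  have h3 : (3 : K) ≠ 0 := n3 K
  have h4 : tf (ρ (Cfsg.Agent.H943.SL2Rel.h (Units.mk0 (3 : K) h3)) (Y x n))
    (ρ (Cfsg.Agent.H943.SL2Rel.h (Units.mk0 (3 : K) h3)) (Y x m)) = tf (Y x n) (Y x m) := H.act.tf _ _ _
  rw [Y_h H.act H.s hn, Y_h H.act H.s hm, tf_smul_left, tf_smul_right] at h4
  have h5 : κ ((Units.mk0 (3 : K) h3 : Kˣ) : K) = 3 := by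
    rw [Units.val_mk0, map_ofNat]
  rw [h5, inv3] at h4
  unfold rowB
  rw [ev_single, fB_cd hn]
  push_cast
  have h7 : (3 : k) ^ (n + m) * 5 ^ (16 - (n + m)) = 3 ^ n * 5 ^ (8 - n) * (3 ^ m * 5 ^ (8 - m)) := by
    have e2 : 16 - (n + m) = (8 - n) + (8 - m) := by omega
    rw [e2, pow_add, pow_add]
    ring
  rw [h7]
  linear_combination h4

theorem HB.row_w (H : HB κ ρ x) {n m : ℕ} (hn : n ≤ 8) (hm : m ≤ 8) : ev (fB x) (rowB (.w n m)) = 0 := by
  have h1 := hb_spec hn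
  have h2 := hb_spec hm
  have h4 := P4_inv H.act (Cfsg.Agent.H943.SL2Rel.w) (x (hb n)) (x (n - hb n)) (x (hb m)) (x (m - hb m))
  rw [H.s.w _ h1.1, H.s.w _ h1.2.1, H.s.w _ h2.1, H.s.w _ h2.2.1, P4_smul,
    H.eq (by omega) (by omega) (by omega) (by omega), H.eq h1.1 h1.2.1 h2.1 h2.2.1] at h4
  have e1 : 4 - hb n + (4 - (n - hb n)) = 8 - n := by omega
  have e2 : 4 - hb m + (4 - (m - hb m)) = 8 - m := by omega
  rw [e1, e2, h1.2.2, h2.2.2] at h4
  unfold rowB
  rw [ev_cons, ev_single]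
  push_cast
  have e3 : (-1 : k) ^ (n + m) = (-1) ^ hb n * (-1) ^ (n - hb n) * (-1) ^ hb m * (-1) ^ (m - hb m) := by
    rw [← pow_add, ← pow_add, ← pow_add]
    congr 1
    omega
  rw [e3]
  linear_combination -h4

theorem HB.row_s {n m : ℕ} (hn : n ≤ 8) (hm : m ≤ 8) : ev (fB x) (rowB (.s n m)) = 0 := by
  unfold rowB
  rw [ev_cons, ev_single, fB_cd hn, fB_cd hm, tf_comm (Y x m)]
  push_cast
  ring

theorem HB.row_e (H : HB κ ρ x) {a b c d : ℕ} (ha : a ≤ 4) (hb' : b ≤ 4) (hc : c ≤ 4) (hd : d ≤ 4) :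
    ev (fB x) (rowB (.e a b c d)) = 0 := by
  unfold rowB
  rw [ev_cons, ev_cons, ev_single, ← H.eq ha hb' hc hd, ← H.eq ha hc hb' hd, ← H.eq ha hd hb' hc]
  have h5 := four (n2 k) (n3 k) (H.tr a ha) (H.tr b hb') (H.tr c hc) (H.tr d hd)
  rw [H.xx a ha b hb', H.xx a ha c hc, H.xx a ha d hd] at h5
  unfold P4
  push_cast
  linear_combination h5

theorem HB.row_u (H : HB κ ρ x) {n m : ℕ} (hn : n ≤ 8) (hm : m ≤ 8) : ev (fB x) (rowB (.u n m)) = 0 := by
  have h1 := hb_spec hn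
  have h2 := hb_spec hm
  have h4 := P4_inv H.act (Cfsg.Agent.H943.SL2Rel.u 1) (x (hb n)) (x (n - hb n)) (x (hb m)) (x (m - hb m))
  rw [H.s.u _ h1.1, H.s.u _ h1.2.1, H.s.u _ h2.1, H.s.u _ h2.2.1, H.eq h1.1 h1.2.1 h2.1 h2.2.1, h1.2.2, h2.2.2] at h4
  simp only [P4_s1, map_one, one_pow, mul_one] at h4
  unfold rowB rowUB
  rw [ev_append, ev_flat, ev_single, ← h4]
  have key : ∀ i ∈ range (4 - hb n + 1), ev (fB x) ((List.range (4 - (n - hb n) + 1)).flatMap fun j =>
      (List.range (4 - hb m + 1)).flatMap fun l => (List.range (4 - (m - hb m) + 1)).flatMap fun q =>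
      [(cdB (n + i + j) (m + l + q), ((4 - hb n).choose i : ℤ) * (((4 - (n - hb n)).choose j : ℤ) *
        (((4 - hb m).choose l : ℤ) * ((4 - (m - hb m)).choose q : ℤ))))]) = ((4 - hb n).choose i : k) * P4 (x (hb n + i))
          (∑ j ∈ range (4 - (n - hb n) + 1), ((4 - (n - hb n)).choose j : k) • x (n - hb n + j))
          (∑ l ∈ range (4 - hb m + 1), ((4 - hb m).choose l : k) • x (hb m + l))
          (∑ q ∈ range (4 - (m - hb m) + 1), ((4 - (m - hb m)).choose q : k) • x (m - hb m + q)) := by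
    intro i hi
    rw [mem_range] at hi
    rw [ev_flat, P4_s2, mul_sum]
    refine sum_congr rfl fun j hj => ?_
    rw [mem_range] at hj
    rw [ev_flat, P4_s3, mul_sum, mul_sum]
    refine sum_congr rfl fun l hl => ?_
    rw [mem_range] at hl
    rw [ev_flat, P4_s4, mul_sum, mul_sum, mul_sum]
    refine sum_congr rfl fun q hq => ?_
    rw [mem_range] at hq
    rw [ev_single, H.eq (by omega) (by omega) (by omega) (by omega)]
    have e1 : hb n + i + (n - hb n + j) = n + i + j := by omega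
    have e2 : hb m + l + (m - hb m + q) = m + l + q := by omega
    rw [e1, e2]
    push_cast
    ring
  rw [sum_congr rfl key]
  push_cast
  ring

/-- **all the products are isotropic** -/
theorem HB.zero (H : HB κ ρ x) {a b c d : ℕ} (ha : a ≤ 4) (hb' : b ≤ 4) (hc : c ≤ 4) (hd : d ≤ 4) :
    tf (st (x a) (x b)) (st (x c) (x d)) = 0 := by
  have h1 : P4 (x a) (x b) (x c) (x d) = 0 := by
    rw [H.eq ha hb' hc hd]
    refine prg_zero (p := 7) (fB x) ((idsTB ++ idsB).map rowB) ?_ ?_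
    · intro r hr
      rw [List.mem_map] at hr
      obtain ⟨id, hid, rfl⟩ := hr
      have h2 := List.all_eq_true.1 okBs id hid
      cases id with
      | t n m =>
        simp only [okB, Bool.and_eq_true, decide_eq_true_eq] at h2
        exact H.row_t h2.1 h2.2
      | s n m =>
        simp only [okB, Bool.and_eq_true, decide_eq_true_eq] at h2
        exact HB.row_s h2.1 h2.2
      | u n m =>
        simp only [okB, Bool.and_eq_true, decide_eq_true_eq] at h2
        exact H.row_u h2.1 h2.2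
      | w n m =>
        simp only [okB, Bool.and_eq_true, decide_eq_true_eq] at h2
        exact H.row_w h2.1 h2.2
      | e a b c d =>
        simp only [okB, Bool.and_eq_true, decide_eq_true_eq] at h2
        exact H.row_e h2.1.1.1 h2.1.1.2 h2.1.2 h2.2
    · rw [prgB, Nat.testBit_two_pow_sub_one, decide_eq_true_eq]
      unfold cdB
      omega
  exact h1

end Cfsg.Agent.R2.H1.A7
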