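import Cfsg.Agent.R2.H1.A7.Dat

/-!
# The Hessian of a string of length 4 (helper1, S5931)

`hs x` is a string of length 4, `hq x` is fixed.
-/

set_option autoImplicit false
set_option linter.unusedSectionVars false
set_option linter.unusedSimpArgs false

namespace Cfsg.Agent.R2.H1.A7

open Cfsg Cfsg.Lie Module Cfsg.Agent.H952.F4 Cfsg.Agent.H952.F4.Jord
open Cfsg.Agent.ChevalleyStructure.E6Min.Tables Cfsg.Agent.ChevalleyStructure.E6Min.Basic
open Cfsg.Agent.R2.F4N (Str)
open Cfsg.Agent.R2.F4L (Act)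
open Cfsg.Agent.R2.H1.F4
open Finset

universe u v w

section expl

variable {k : Type u} [Field k] {K : Type w} [Field K] {κ : K →+* k} {W : Type v} [AddCommGroup W] [Module k W]
variable {ρ : Representation k (Matrix.SpecialLinearGroup (Fin 2) K) W} {x : ℕ → W}

theorem s4u0 (h : Str κ ρ 4 x) (t : K) : ρ (Cfsg.Agent.H943.SL2Rel.u t) (x 0) =
    x 0 + (4 * κ t) • x 1 + (6 * κ t ^ 2) • x 2 + (4 * κ t ^ 3) • x 3 + κ t ^ 4 • x 4 := by
  rw [h.u 0 (by norm_num) t]
  simp [sum_range_succ, Nat.choose]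

theorem s4u1 (h : Str κ ρ 4 x) (t : K) : ρ (Cfsg.Agent.H943.SL2Rel.u t) (x 1) =
    x 1 + (3 * κ t) • x 2 + (3 * κ t ^ 2) • x 3 + (κ t ^ 3) • x 4 := by
  rw [h.u 1 (by norm_num) t]
  simp [sum_range_succ, Nat.choose]

theorem s4u2 (h : Str κ ρ 4 x) (t : K) : ρ (Cfsg.Agent.H943.SL2Rel.u t) (x 2) =
    x 2 + (2 * κ t) • x 3 + (κ t ^ 2) • x 4 := by
  rw [h.u 2 (by norm_num) t]
  simp [sum_range_succ, Nat.choose]

theorem s4u3 (h : Str κ ρ 4 x) (t : K) : ρ (Cfsg.Agent.H943.SL2Rel.u t) (x 3) = x 3 + κ t • x 4 := by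
  rw [h.u 3 (by norm_num) t]
  simp [sum_range_succ, Nat.choose]

theorem s4u4 (h : Str κ ρ 4 x) (t : K) : ρ (Cfsg.Agent.H943.SL2Rel.u t) (x 4) = x 4 := by
  rw [h.u 4 (by norm_num) t]
  simp [sum_range_succ, Nat.choose]

theorem str_of4 {y : ℕ → W} (h0 : ∀ t : K, ρ (Cfsg.Agent.H943.SL2Rel.u t) (y 0) =
      y 0 + (4 * κ t) • y 1 + (6 * κ t ^ 2) • y 2 + (4 * κ t ^ 3) • y 3 + κ t ^ 4 • y 4)
    (h1 : ∀ t : K, ρ (Cfsg.Agent.H943.SL2Rel.u t) (y 1) =
      y 1 + (3 * κ t) • y 2 + (3 * κ t ^ 2) • y 3 + (κ t ^ 3) • y 4)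
    (h2 : ∀ t : K, ρ (Cfsg.Agent.H943.SL2Rel.u t) (y 2) = y 2 + (2 * κ t) • y 3 + (κ t ^ 2) • y 4)
    (h3 : ∀ t : K, ρ (Cfsg.Agent.H943.SL2Rel.u t) (y 3) = y 3 + κ t • y 4)
    (h4 : ∀ t : K, ρ (Cfsg.Agent.H943.SL2Rel.u t) (y 4) = y 4)
    (hh : ∀ s ≤ 4, ∀ a : Kˣ, ρ (Cfsg.Agent.H943.SL2Rel.h a) (y s) = (κ a ^ s * ((κ a)⁻¹) ^ (4 - s)) • y s)
    (hw : ∀ s ≤ 4, ρ Cfsg.Agent.H943.SL2Rel.w (y s) = (-1 : k) ^ s • y (4 - s)) : Str κ ρ 4 y where
  u := by
    intro s hs t
    interval_cases s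
    · rw [h0]; simp [sum_range_succ, Nat.choose]
    · rw [h1]; simp [sum_range_succ, Nat.choose]
    · rw [h2]; simp [sum_range_succ, Nat.choose]
    · rw [h3]; simp [sum_range_succ, Nat.choose]
    · rw [h4]; simp [sum_range_succ, Nat.choose]
  h := hh
  w := hw

end expl

section hess

variable {k : Type u} [Field k] {K : Type w} [Field K] {κ : K →+* k}
variable {ρ : Representation k (Matrix.SpecialLinearGroup (Fin 2) K) (I27 → k)} {x : ℕ → (I27 → k)}

/-- the Hessian -/
noncomputable def hs (x : ℕ → (I27 → k)) : ℕ → (I27 → k)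
  | 0 => (12 : k) • st (x 0) (x 2) - (12 : k) • st (x 1) (x 1)
  | 1 => (6 : k) • st (x 0) (x 3) - (6 : k) • st (x 1) (x 2)
  | 2 => (2 : k) • st (x 0) (x 4) + (4 : k) • st (x 1) (x 3) - (6 : k) • st (x 2) (x 2)
  | 3 => (6 : k) • st (x 1) (x 4) - (6 : k) • st (x 2) (x 3)
  | _ => (12 : k) • st (x 2) (x 4) - (12 : k) • st (x 3) (x 3)

/-- the invariant -/
noncomputable def hq (x : ℕ → (I27 → k)) : I27 → k :=
  st (x 0) (x 4) - (4 : k) • st (x 1) (x 3) + (3 : k) • st (x 2) (x 2)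

theorem hs_str (H : Act ρ) (h : Str κ ρ 4 x) : Str κ ρ 4 (hs x) := by
  have c10 := st_comm (x 1) (x 0)
  have c20 := st_comm (x 2) (x 0)
  have c30 := st_comm (x 3) (x 0)
  have c40 := st_comm (x 4) (x 0)
  have c21 := st_comm (x 2) (x 1)
  have c31 := st_comm (x 3) (x 1)
  have c41 := st_comm (x 4) (x 1)
  have c32 := st_comm (x 3) (x 2)
  have c42 := st_comm (x 4) (x 2)
  have c43 := st_comm (x 4) (x 3)
  refine str_of4 ?_ ?_ ?_ ?_ ?_ ?_ ?_
  · intro t
    simp only [hs, map_sub, map_add, map_smul, ← st_inv H, s4u0 h, s4u1 h, s4u2 h, s4u3 h, s4u4 h, st_add_left, st_add_right,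
      st_smul_left, st_smul_right, c10, c20, c30, c40, c21, c31, c41, c32, c42, c43]
    module
  · intro t
    simp only [hs, map_sub, map_add, map_smul, ← st_inv H, s4u0 h, s4u1 h, s4u2 h, s4u3 h, s4u4 h, st_add_left, st_add_right,
      st_smul_left, st_smul_right, c10, c20, c30, c40, c21, c31, c41, c32, c42, c43]
    module
  · intro t
    simp only [hs, map_sub, map_add, map_smul, ← st_inv H, s4u0 h, s4u1 h, s4u2 h, s4u3 h, s4u4 h, st_add_left, st_add_right,
      st_smul_left, st_smul_right, c10, c20, c30, c40, c21, c31, c41, c32, c42, c43]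
    module
  · intro t
    simp only [hs, map_sub, map_add, map_smul, ← st_inv H, s4u0 h, s4u1 h, s4u2 h, s4u3 h, s4u4 h, st_add_left, st_add_right,
      st_smul_left, st_smul_right, c10, c20, c30, c40, c21, c31, c41, c32, c42, c43]
    module
  · intro t
    simp only [hs, map_sub, map_add, map_smul, ← st_inv H, s4u0 h, s4u1 h, s4u2 h, s4u3 h, s4u4 h, st_add_left, st_add_right,
      st_smul_left, st_smul_right, c10, c20, c30, c40, c21, c31, c41, c32, c42, c43]
    module
  · intro s hs' t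
    have ht : κ t ≠ 0 := (map_ne_zero κ).2 t.ne_zero
    have key : ∀ a ≤ 4, ∀ b ≤ 4, ∀ n : ℕ, n + 2 = a + b → n ≤ 4 → ρ (Cfsg.Agent.H943.SL2Rel.h t) (st (x a) (x b)) =
        (κ t ^ n * ((κ t)⁻¹) ^ (4 - n)) • st (x a) (x b) := by
      intro a ha b hb n hn hn4
      rw [← st_inv H, h.h a ha, h.h b hb, st_smul_left, st_smul_right, smul_smul]
      congr 1
      have e : κ t ^ a * (κ t)⁻¹ ^ (4 - a) * (κ t ^ b * (κ t)⁻¹ ^ (4 - b)) =
          κ t ^ (a + b) * (κ t)⁻¹ ^ (8 - (a + b)) := by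
        have e1 : 8 - (a + b) = (4 - a) + (4 - b) := by omega
        rw [e1, pow_add, pow_add]
        ring
      have e2 : 8 - (a + b) = (4 - n) + 2 := by omega
      rw [e, e2, ← hn, pow_add, pow_add, inv_pow, inv_pow]
      field_simp
    interval_cases s
    · simp only [hs, map_sub, map_add, map_smul]
      rw [key 0 (by norm_num) 2 (by norm_num) 0 (by norm_num) (by norm_num),
        key 1 (by norm_num) 1 (by norm_num) 0 (by norm_num) (by norm_num)]
      module
    · simp only [hs, map_sub, map_add, map_smul]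
      rw [key 0 (by norm_num) 3 (by norm_num) 1 (by norm_num) (by norm_num),
        key 1 (by norm_num) 2 (by norm_num) 1 (by norm_num) (by norm_num)]
      module
    · simp only [hs, map_sub, map_add, map_smul]
      rw [key 0 (by norm_num) 4 (by norm_num) 2 (by norm_num) (by norm_num),
        key 1 (by norm_num) 3 (by norm_num) 2 (by norm_num) (by norm_num),
        key 2 (by norm_num) 2 (by norm_num) 2 (by norm_num) (by norm_num)]
      module
    · simp only [hs, map_sub, map_add, map_smul]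
      rw [key 1 (by norm_num) 4 (by norm_num) 3 (by norm_num) (by norm_num),
        key 2 (by norm_num) 3 (by norm_num) 3 (by norm_num) (by norm_num)]
      module
    · simp only [hs, map_sub, map_add, map_smul]
      rw [key 2 (by norm_num) 4 (by norm_num) 4 (by norm_num) (by norm_num),
        key 3 (by norm_num) 3 (by norm_num) 4 (by norm_num) (by norm_num)]
      module
  · intro s hs'
    have key : ∀ a ≤ 4, ∀ b ≤ 4, ρ (Cfsg.Agent.H943.SL2Rel.w) (st (x a) (x b)) =
        (-1 : k) ^ (a + b) • st (x (4 - a)) (x (4 - b)) := by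
      intro a ha b hb
      rw [← st_inv H, h.w a ha, h.w b hb, st_smul_left, st_smul_right, smul_smul, pow_add]
    have k1 := key 0 (by norm_num) 2 (by norm_num)
    have k2 := key 1 (by norm_num) 1 (by norm_num)
    have k3 := key 0 (by norm_num) 3 (by norm_num)
    have k4 := key 1 (by norm_num) 2 (by norm_num)
    have k5 := key 0 (by norm_num) 4 (by norm_num)
    have k6 := key 1 (by norm_num) 3 (by norm_num)
    have k7 := key 2 (by norm_num) 2 (by norm_num)
    have k8 := key 1 (by norm_num) 4 (by norm_num)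
    have k9 := key 2 (by norm_num) 3 (by norm_num)
    have k10 := key 2 (by norm_num) 4 (by norm_num)
    have k11 := key 3 (by norm_num) 3 (by norm_num)
    norm_num at k1 k2 k3 k4 k5 k6 k7 k8 k9 k10 k11
    interval_cases s
    · rw [Nat.sub_zero, pow_zero, one_smul]
      simp only [hs, map_sub, map_add, map_smul, k1, k2, c42]
    · simp only [hs, map_sub, map_add, map_smul, k3, k4, c41, c32]
      module
    · simp only [hs, map_sub, map_add, map_smul, k5, k6, k7, c40, c31]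
      module
    · simp only [hs, map_sub, map_add, map_smul, k8, k9, c30, c21]
      module
    · simp only [hs, map_sub, map_add, map_smul, k10, k11, c20]
      module

theorem hq_fix (H : Act ρ) (h : Str κ ρ 4 x) (g : Matrix.SpecialLinearGroup (Fin 2) K) : ρ g (hq x) = hq x := by
  classical
  have c10 := st_comm (x 1) (x 0)
  have c20 := st_comm (x 2) (x 0)
  have c30 := st_comm (x 3) (x 0)
  have c40 := st_comm (x 4) (x 0)
  have c21 := st_comm (x 2) (x 1)
  have c31 := st_comm (x 3) (x 1)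
  have c41 := st_comm (x 4) (x 1)
  have c32 := st_comm (x 3) (x 2)
  have c42 := st_comm (x 4) (x 2)
  have c43 := st_comm (x 4) (x 3)
  refine Cfsg.Agent.H943.SL2Rel.induct (P := fun g => ρ g (hq x) = hq x) ?_ ?_ ?_ ?_ g
  · intro t
    simp only [hq, map_sub, map_add, map_smul, ← st_inv H, s4u0 h, s4u1 h, s4u2 h, s4u3 h, s4u4 h, st_add_left, st_add_right,
      st_smul_left, st_smul_right, c10, c20, c30, c40, c21, c31, c41, c32, c42, c43]
    module
  · intro t
    have ht : κ t ≠ 0 := (map_ne_zero κ).2 t.ne_zero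
    have key : ∀ a ≤ 4, ∀ b ≤ 4, a + b = 4 → ρ (Cfsg.Agent.H943.SL2Rel.h t) (st (x a) (x b)) = st (x a) (x b) := by
      intro a ha b hb hab
      rw [← st_inv H, h.h a ha, h.h b hb, st_smul_left, st_smul_right, smul_smul]
      have e : κ t ^ a * (κ t)⁻¹ ^ (4 - a) * (κ t ^ b * (κ t)⁻¹ ^ (4 - b)) = 1 := by
        have e1 : κ t ^ a * (κ t)⁻¹ ^ (4 - a) * (κ t ^ b * (κ t)⁻¹ ^ (4 - b)) =
          κ t ^ (a + b) * (κ t)⁻¹ ^ ((4 - a) + (4 - b)) := by
          rw [pow_add, pow_add]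
          ring
        rw [e1, hab, (by omega : (4 - a) + (4 - b) = 4), ← mul_pow, mul_inv_cancel₀ ht, one_pow]
      rw [e, one_smul]
    simp only [hq, map_sub, map_add, map_smul]
    rw [key 0 (by norm_num) 4 (by norm_num) (by norm_num), key 1 (by norm_num) 3 (by norm_num) (by norm_num),
      key 2 (by norm_num) 2 (by norm_num) (by norm_num)]
  · have key : ∀ a ≤ 4, ∀ b ≤ 4, ρ (Cfsg.Agent.H943.SL2Rel.w) (st (x a) (x b)) =
        (-1 : k) ^ (a + b) • st (x (4 - a)) (x (4 - b)) := by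
      intro a ha b hb
      rw [← st_inv H, h.w a ha, h.w b hb, st_smul_left, st_smul_right, smul_smul, pow_add]
    have k5 := key 0 (by norm_num) 4 (by norm_num)
    have k6 := key 1 (by norm_num) 3 (by norm_num)
    have k7 := key 2 (by norm_num) 2 (by norm_num)
    norm_num at k5 k6 k7
    simp only [hq, map_sub, map_add, map_smul, k5, k6, k7, c40, c31]
  · intro g g' e e'
    rw [map_mul, Module.End.mul_apply, e', e]

end hess

end Cfsg.Agent.R2.H1.A7
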