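import Cfsg.Agent.R2.H1.A7.Unit

/-!
# The rows for the four-linear forms `T(x_a * y_n, u_d)` (helper1, S5931, p = 7)
-/

set_option autoImplicit false

namespace Cfsg.Agent.R2.H1.A7

/-- the code of `T(x_a * y_n, u_d)` -/
def cd (a n d : ℕ) : ℕ := a + 5 * (n + 9 * d)

/-- the names of the rows -/
inductive RowId
  | t (a n d : ℕ)
  | u (a n d : ℕ)
  | w (a n d : ℕ)
  | c (a b c d : ℕ)

/-- the splitting of `n` -/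
def hb (n : ℕ) : ℕ := min n 4

/-- the row of the unipotent element -/
def rowU (L a n d : ℕ) : List (ℕ × ℤ) :=
  ((List.range (4 - a + 1)).flatMap fun i => (List.range (4 - hb n + 1)).flatMap fun j =>
    (List.range (4 - (n - hb n) + 1)).flatMap fun l => (List.range (L - d + 1)).flatMap fun m =>
      [(cd (a + i) (n + j + l) (d + m), ((4 - a).choose i : ℤ) * (((4 - hb n).choose j : ℤ) *
        (((4 - (n - hb n)).choose l : ℤ) * ((L - d).choose m : ℤ))))]) ++ [(cd a n d, -1)]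

/-- the rows -/
def rowOf (L : ℕ) : RowId → List (ℕ × ℤ)
  | .t a n d => [(cd a n d, 3 ^ (a + n + d) * 5 ^ (12 + L - (a + n + d)) - 1)]
  | .u a n d => rowU L a n d
  | .w a n d => [(cd a n d, 1), (cd (4 - a) (8 - n) (L - d), -(-1) ^ (a + n + d))]
  | .c a b c d => [(cd a (b + c) d, 1), (cd b (a + c) d, 1), (cd c (a + b) d, 1)]

/-- the ranges -/
def okId (L : ℕ) : RowId → Bool
  | .t a n d => decide (a ≤ 4) && decide (n ≤ 8) && decide (d ≤ L)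
  | .u a n d => decide (a ≤ 4) && decide (n ≤ 8) && decide (d ≤ L)
  | .w a n d => decide (a ≤ 4) && decide (n ≤ 8) && decide (d ≤ L)
  | .c a b c d => decide (a ≤ 4) && decide (b ≤ 4) && decide (c ≤ 4) && decide (d ≤ L)

/-- the torus rows -/
def idsT (L : ℕ) : List RowId := (List.range 5).flatMap fun a => (List.range 9).flatMap fun n =>
  (List.range (L + 1)).map fun d => .t a n d

def ids4 : List RowId := [.u 0 8 4, .u 1 1 4, .w 1 7 0, .u 1 7 4, .u 1 8 3, .w 2 0 0, .u 2 0 4, .u 2 1 3, .u 2 5 4, .u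
  2 6 3, .u 2 7 2, .w 3 7 4, .w 3 8 3, .w 4 0 4, .w 4 1 3, .u 4 2 4, .u 4 3 3, .w 4 3 4, .u 4 4 2, .w 4 4 3, .u 4 5 1,
  .w 4 5 2, .u 4 6 0, .w 4 6 1, .w 4 6 4, .w 4 7 0, .w 4 7 3, .w 4 8 2, .c 0 0 1 4, .c 0 0 2 3, .c 0 0 3 2, .c 0 0 4
  1, .c 0 0 4 4, .c 0 1 1 3, .c 0 1 3 4, .c 0 2 2 1, .c 0 2 2 4, .c 0 4 4 0, .c 0 4 4 3, .c 1 1 1 2, .c 1 1 2 1, .c 1
  3 4 0, .c 1 4 4 2, .c 2 2 2 2, .c 2 2 4 0, .c 2 2 4 3, .c 2 3 3 3, .c 2 4 4 1, .c 3 3 3 2, .c 3 3 4 1, .c 3 4 4 0,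
  .u 0 0 4, .u 0 1 2, .u 0 6 4, .u 0 7 3, .w 0 7 4, .u 1 0 2, .u 1 1 0, .u 1 5 2, .u 1 6 0, .w 1 6 1, .w 1 6 4, .u 2 2
  4, .w 2 3 0, .u 2 5 0, .w 2 5 1, .u 3 4 0, .w 3 4 1, .w 3 4 4, .u 4 3 0, .w 4 3 1, .u 0 6 0, .w 0 6 2, .u 1 4 0, .w
  1 5 2]

def ids6 : List RowId := [.u 1 8 6, .w 2 4 3, .u 4 2 6, .u 4 3 5, .u 4 4 4, .u 4 5 3, .w 4 5 6, .w 4 6 5, .w 4 7 4, .w
  4 8 3, .w 4 8 6, .c 0 0 0 6, .c 0 0 1 2, .c 0 0 2 1, .c 0 0 3 0, .c 0 1 1 1, .c 1 1 1 0, .c 1 1 1 3, .c 1 1 1 6, .c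
  1 4 4 6, .c 2 2 2 0, .c 2 2 2 6, .c 2 4 4 5, .c 3 3 3 0, .c 3 3 3 3, .c 3 3 3 6, .c 3 3 4 5, .c 3 4 4 4, .c 4 4 4 0,
  .u 0 1 6, .u 0 6 6, .u 1 0 6, .u 1 1 5, .u 1 4 6, .w 1 5 6, .w 1 7 1, .w 1 8 0, .u 2 0 5, .w 2 1 0, .u 2 1 3, .w 2 1
  6, .u 2 3 6, .u 3 2 6, .w 3 3 6, .u 3 8 0, .w 3 8 1, .w 4 0 5, .u 4 1 0, .w 4 1 1, .w 4 1 4, .u 4 2 5, .w 4 2 6, .u
  4 3 4, .w 4 3 5, .u 4 4 3, .w 4 4 4, .u 4 5 2, .w 4 5 3, .u 4 6 0, .w 4 6 2, .w 4 7 1, .c 0 0 2 4, .c 0 0 3 3, .c 0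
  0 3 6, .c 0 0 4 2, .c 0 0 4 5, .c 0 1 1 4, .c 0 1 2 3, .c 0 1 3 5, .c 0 1 4 1, .c 0 2 2 2, .c 0 2 2 5, .c 0 2 4 0,
  .c 0 2 4 6, .c 0 3 4 5, .c 0 4 4 1, .c 0 4 4 4, .c 1 1 2 2, .c 1 1 3 1, .c 1 2 2 1, .c 1 3 3 5, .c 1 3 4 1, .c 1 4 4
  0, .c 1 4 4 3, .c 2 2 3 5, .c 2 2 4 1, .c 2 2 4 4, .c 2 3 3 4, .c 2 3 4 3, .c 2 4 4 2, .c 3 3 4 2, .u 0 0 3, .u 0 1
  0, .u 1 6 0, .w 1 6 2, .u 2 2 4, .u 2 3 3, .w 2 3 4, .u 2 4 0, .u 3 2 3, .u 3 3 0, .w 3 3 3, .w 3 4 2, .w 4 2 3, .w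
  4 3 2]

theorem ok4 : ((idsT 4 ++ ids4).all fun i => okId 4 i) = true := by decide +kernel

theorem ok6 : ((idsT 6 ++ ids6).all fun i => okId 6 i) = true := by decide +kernel

theorem prg4 : prg 7 ((idsT 4 ++ ids4).map (rowOf 4)) 0 = 2 ^ 225 - 1 := by decide +kernel

theorem prg6 : prg 7 ((idsT 6 ++ ids6).map (rowOf 6)) 0 = 2 ^ 315 - 1 := by decide +kernel

end Cfsg.Agent.R2.H1.A7
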