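import Cfsg.Agent.R2.H1.A7.Rows

/-!
# The rows for the form `T(y_n, y_m)` on products (helper1, S5931, p = 7)
-/

set_option autoImplicit false

namespace Cfsg.Agent.R2.H1.A7

/-- the code of `T(y_n, y_m)` -/
def cdB (n m : ℕ) : ℕ := n + 9 * m

/-- the names of the rows -/
inductive RowB
  | t (n m : ℕ)
  | s (n m : ℕ)
  | u (n m : ℕ)
  | w (n m : ℕ)
  | e (a b c d : ℕ)

/-- the row of the unipotent element -/
def rowUB (n m : ℕ) : List (ℕ × ℤ) :=
  ((List.range (4 - hb n + 1)).flatMap fun i => (List.range (4 - (n - hb n) + 1)).flatMap fun j =>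
    (List.range (4 - hb m + 1)).flatMap fun l => (List.range (4 - (m - hb m) + 1)).flatMap fun q =>
      [(cdB (n + i + j) (m + l + q), ((4 - hb n).choose i : ℤ) * (((4 - (n - hb n)).choose j : ℤ) *
        (((4 - hb m).choose l : ℤ) * ((4 - (m - hb m)).choose q : ℤ))))]) ++ [(cdB n m, -1)]

/-- the rows -/
def rowB : RowB → List (ℕ × ℤ)
  | .t n m => [(cdB n m, 3 ^ (n + m) * 5 ^ (16 - (n + m)) - 1)]
  | .s n m => [(cdB n m, 1), (cdB m n, -1)]
  | .u n m => rowUB n m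
  | .w n m => [(cdB n m, 1), (cdB (8 - n) (8 - m), -(-1) ^ (n + m))]
  | .e a b c d => [(cdB (a + b) (c + d), 1), (cdB (a + c) (b + d), 1), (cdB (a + d) (b + c), 1)]

/-- the ranges -/
def okB : RowB → Bool
  | .t n m => decide (n ≤ 8) && decide (m ≤ 8)
  | .s n m => decide (n ≤ 8) && decide (m ≤ 8)
  | .u n m => decide (n ≤ 8) && decide (m ≤ 8)
  | .w n m => decide (n ≤ 8) && decide (m ≤ 8)
  | .e a b c d => decide (a ≤ 4) && decide (b ≤ 4) && decide (c ≤ 4) && decide (d ≤ 4)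

/-- the torus rows -/
def idsTB : List RowB := (List.range 9).flatMap fun n => (List.range 9).map fun m => .t n m

def idsB : List RowB := [.u 3 8, .u 4 1, .u 4 7, .u 5 0, .u 5 6, .w 6 8, .s 7 1, .w 7 7, .s 8 0, .u 8 2, .s 8 3, .w
  8 3, .w 8 6, .e 0 0 4 4, .e 0 1 3 4, .e 0 2 2 4, .e 0 3 4 4, .e 1 1 2 4, .e 1 2 4 4, .e 2 2 3 4, .s 0 5, .u 1 2,
  .s 1 4, .w 1 4, .w 2 3, .s 2 6, .s 3 2]

theorem okBs : ((idsTB ++ idsB).all okB) = true := by decide +kernel

theorem prgB : prg 7 ((idsTB ++ idsB).map rowB) 0 = 2 ^ 81 - 1 := by decide +kernel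

end Cfsg.Agent.R2.H1.A7
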