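import Cfsg.Agent.R2.H1.A7.Base
import Cfsg.Agent.R2.H1.A7.Rows

/-!
# `p = 7`, step 1: the Hessian of `x` is a nonzero multiple of `x` (helper1, S5931)
-/

set_option autoImplicit false
set_option linter.unusedSectionVars false
set_option linter.unusedSimpArgs false

namespace Cfsg.Agent.R2.H1.A7

open Cfsg Cfsg.Lie Module Cfsg.Agent.H952.F4 Cfsg.Agent.H952.F4.Jord
open Cfsg.Agent.ChevalleyStructure.E6Min.Tables Cfsg.Agent.ChevalleyStructure.E6Min.Basic
open Cfsg.Agent.R2.F4N (Str)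
open Cfsg.Agent.R2.F4L (Act)
open Cfsg.Agent.H952.F4.FixV (W0 mem_W0 finrank_W0 trL tfL tfL_apply tr1_sub tf_sub_left tf_sub_right)
open Cfsg.Agent.R2.H1.F4
open Finset

universe u v w

variable {k : Type u} [Field k] {K : Type w} [Field K] [Fintype K] {κ : K →+* k}
variable {ρ : Representation k (Matrix.SpecialLinearGroup (Fin 2) K) (I27 → k)}
variable {x m v : ℕ → (I27 → k)} [Fact (Nat.Prime 7)] [CharP k 7]

theorem seven_smul (y : I27 → k) : (7 : k) • y = 0 := by rw [sv7 k, zero_smul]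

theorem Dat.hq0 (D : Dat κ ρ x m v) : hq x = 0 := by
  refine D.fix _ ?_ fun g => hq_fix D.act D.sx g
  unfold hq
  rw [tr1_add, tr1_sub, tr1_smul, tr1_smul, tr1_st (n3 k) (D.tx 0 (by norm_num)), tr1_st (n3 k) (D.tx 1 (by norm_num)),
    tr1_st (n3 k) (D.tx 2 (by norm_num))]
  ring

/-- the relations between the products -/
theorem rels (hq0 : hq x = 0) {α : k} (hα : ∀ c ≤ 4, hs x c = α • x c) :
    st (x 1) (x 1) = st (x 2) (x 0) - (3 * α) • x 0 ∧ st (x 1) (x 2) = st (x 3) (x 0) + α • x 1 ∧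
    st (x 2) (x 2) = st (x 4) (x 0) + (2 * α) • x 2 ∧ st (x 1) (x 3) = st (x 4) (x 0) - (2 * α) • x 2 ∧
    st (x 2) (x 3) = st (x 4) (x 1) + α • x 3 ∧ st (x 3) (x 3) = st (x 4) (x 2) - (3 * α) • x 4 := by
  have h0 := hα 0 (by norm_num)
  have h1 := hα 1 (by norm_num)
  have h2 := hα 2 (by norm_num)
  have h3 := hα 3 (by norm_num)
  have h4 := hα 4 (by norm_num)
  unfold hq at hq0
  simp only [hs] at h0 h1 h2 h3 h4
  rw [st_comm (x 2) (x 0), st_comm (x 3) (x 0), st_comm (x 4) (x 0), st_comm (x 4) (x 1), st_comm (x 4) (x 2)]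
  have z := seven_smul (k := k)
  refine ⟨?_, ?_, ?_, ?_, ?_, ?_⟩
  · linear_combination (norm := module) (-3 : k) • h0 + (5 : k) • z (st (x 0) (x 2)) - (5 : k) • z (st (x 1) (x 1))
  · linear_combination (norm := module) (1 : k) • h1 - z (st (x 0) (x 3)) + z (st (x 1) (x 2))
  · linear_combination (norm := module) (2 : k) • h2 + (2 : k) • hq0 - z (st (x 0) (x 4)) + z (st (x 2) (x 2))
  · linear_combination (norm := module) (-2 : k) • h2 + (-4 : k) • hq0 + z (st (x 0) (x 4)) - z (st (x 1) (x 3))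
  · linear_combination (norm := module) (1 : k) • h3 - z (st (x 1) (x 4)) + z (st (x 2) (x 3))
  · linear_combination (norm := module) (-3 : k) • h4 + (5 : k) • z (st (x 2) (x 4)) - (5 : k) • z (st (x 3) (x 3))

/-- all the products -/
theorem md (hq0 : hq x = 0) {α : k} (hα : ∀ c ≤ 4, hs x c = α • x c) : ∀ b ≤ 4, ∀ c ≤ 4, ∃ l : k, ∃ i ≤ 4,
    st (x b) (x c) = st (x (hb (b + c))) (x (b + c - hb (b + c))) + (l * α) • x i := by
  obtain ⟨e11, e12, e22, e13, e23, e33⟩ := rels hq0 hα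
  have z0 : ∀ (y : I27 → k) (i : ℕ), y = y + ((0 : k) * α) • x i := fun y i => by rw [zero_mul, zero_smul, add_zero]
  intro b hb' c hc
  interval_cases b <;> interval_cases c
  · exact ⟨0, 0, by norm_num, z0 _ _⟩
  · exact ⟨0, 0, by norm_num, (st_comm _ _).trans (z0 _ _)⟩
  · exact ⟨0, 0, by norm_num, (st_comm _ _).trans (z0 _ _)⟩
  · exact ⟨0, 0, by norm_num, (st_comm _ _).trans (z0 _ _)⟩
  · exact ⟨0, 0, by norm_num, (st_comm _ _).trans (z0 _ _)⟩
  · exact ⟨0, 0, by norm_num, z0 _ _⟩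
  · exact ⟨-3, 0, by norm_num, by
      change st (x 1) (x 1) = st (x 2) (x 0) + _
      rw [e11]; module⟩
  · exact ⟨1, 1, by norm_num, by
      change st (x 1) (x 2) = st (x 3) (x 0) + _
      rw [e12]; module⟩
  · exact ⟨-2, 2, by norm_num, by
      change st (x 1) (x 3) = st (x 4) (x 0) + _
      rw [e13]; module⟩
  · exact ⟨0, 0, by norm_num, (st_comm _ _).trans (z0 _ _)⟩
  · exact ⟨0, 0, by norm_num, z0 _ _⟩
  · exact ⟨1, 1, by norm_num, by
      change st (x 2) (x 1) = st (x 3) (x 0) + _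
      rw [st_comm, e12]; module⟩
  · exact ⟨2, 2, by norm_num, by
      change st (x 2) (x 2) = st (x 4) (x 0) + _
      rw [e22]⟩
  · exact ⟨1, 3, by norm_num, by
      change st (x 2) (x 3) = st (x 4) (x 1) + _
      rw [e23]; module⟩
  · exact ⟨0, 0, by norm_num, (st_comm _ _).trans (z0 _ _)⟩
  · exact ⟨0, 0, by norm_num, z0 _ _⟩
  · exact ⟨-2, 2, by norm_num, by
      change st (x 3) (x 1) = st (x 4) (x 0) + _
      rw [st_comm, e13]; module⟩
  · exact ⟨1, 3, by norm_num, by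
      change st (x 3) (x 2) = st (x 4) (x 1) + _
      rw [st_comm, e23]; module⟩
  · exact ⟨-3, 4, by norm_num, by
      change st (x 3) (x 3) = st (x 4) (x 2) + _
      rw [e33]; module⟩
  · exact ⟨0, 0, by norm_num, (st_comm _ _).trans (z0 _ _)⟩
  · exact ⟨0, 0, by norm_num, z0 _ _⟩
  · exact ⟨0, 0, by norm_num, z0 _ _⟩
  · exact ⟨0, 0, by norm_num, z0 _ _⟩
  · exact ⟨0, 0, by norm_num, z0 _ _⟩
  · exact ⟨0, 0, by norm_num, z0 _ _⟩

/-- the Hessian has no component along `m` -/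
theorem Dat.hs_eq (D : Dat κ ρ x m v) (hK : 7 ≤ Fintype.card K) : ∃ α : k, ∀ c ≤ 4, hs x c = α • x c := by
  obtain ⟨α, β, h⟩ := D.s4 (hs x) (hs_str D.act D.sx) (fun c hc => by
    interval_cases c <;> simp only [hs, tr1_add, tr1_sub, tr1_smul, tr1_st (n3 k) (D.tx 0 (by norm_num)),
      tr1_st (n3 k) (D.tx 1 (by norm_num)), tr1_st (n3 k) (D.tx 2 (by norm_num)), tr1_st (n3 k) (D.tx 3 (by norm_num))] <;>
      ring)
  obtain ⟨g, hg⟩ := tab222 hK D.act D.sx D.sx D.sm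
  have h1 := hg 0 2 4
  have h2 := hg 1 1 4
  have t1 : tau 2 2 2 0 2 4 = 1 := by decide +kernel
  have t2 : tau 2 2 2 1 1 4 = -2 := by decide +kernel
  rw [t1] at h1
  rw [t2] at h2
  norm_num [Nat.choose] at h1 h2
  have h3 := congrArg (fun y => tf y (m 4)) (h 0 (by norm_num))
  simp only [hs, tf_sub_left, tf_add_left, tf_smul_left, D.xm 0 (by norm_num) 4 (by norm_num)] at h3
  have h7 := sv7 k
  have h4 : β * tf (m 0) (m 4) = 0 := by
    linear_combination (-1 : k) * h3 + 2 * h1 - 6 * h2 + (2 * g + 12 * tf (st (x 1) (x 1)) (m 4)) * h7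
  have hβ : β = 0 := (mul_eq_zero.1 h4).resolve_right D.mm
  exact ⟨α, fun c hc => by rw [h c hc, hβ, zero_smul, add_zero]⟩

end Cfsg.Agent.R2.H1.A7
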