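import Cfsg.Agent.R2.H1.A7.FourB

/-!
# `p = 7`, step 2: `T(x * x, x) ≠ 0` (helper1, S5931)
-/

set_option autoImplicit false
set_option linter.unusedSectionVars false
set_option linter.unusedSimpArgs false

namespace Cfsg.Agent.R2.H1.A7

open Cfsg Cfsg.Lie Module Cfsg.Agent.H952.F4 Cfsg.Agent.H952.F4.Jord
open Cfsg.Agent.ChevalleyStructure.E6Min.Tables Cfsg.Agent.ChevalleyStructure.E6Min.Basic
open Cfsg.Agent.R2.F4N (Str)
open Cfsg.Agent.R2.F4L (Act)
open Cfsg.Agent.H952.F4.FixV (W0 mem_W0 finrank_W0 trL tfL tfL_apply tr1_sub tf_sub_left tf_sub_right)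
open Cfsg.Agent.R2.H1.F4
open Finset

universe u v w

variable {k : Type u} [Field k]

/-- the span of the products -/
noncomputable def prods (x : ℕ → (I27 → k)) : Submodule k (I27 → k) :=
  Submodule.span k {w | ∃ a, a ≤ 4 ∧ ∃ b, b ≤ 4 ∧ w = st (x a) (x b)}

theorem mem_prods {x : ℕ → (I27 → k)} {a b : ℕ} (ha : a ≤ 4) (hb' : b ≤ 4) : st (x a) (x b) ∈ prods x :=
  Submodule.subset_span ⟨a, ha, b, hb', rfl⟩

theorem prods_le {x : ℕ → (I27 → k)} {S : Submodule k (I27 → k)} (h : ∀ a ≤ 4, ∀ b ≤ 4, st (x a) (x b) ∈ S) : prods x ≤ S := by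
  unfold prods
  rw [Submodule.span_le]
  rintro w ⟨a, ha, b, hb', rfl⟩
  exact h a ha b hb'

theorem mem_spx {n : ℕ} {x : ℕ → (I27 → k)} {a : ℕ} (ha : a ≤ n) : x a ∈ spx n x := Submodule.subset_span ⟨a, ha, rfl⟩

theorem spx_le {n : ℕ} {x : ℕ → (I27 → k)} {S : Submodule k (I27 → k)} (h : ∀ a ≤ n, x a ∈ S) : spx n x ≤ S := by
  unfold spx
  rw [Submodule.span_le]
  rintro w ⟨a, ha, rfl⟩
  exact h a ha

/-- the product as a bilinear map -/
noncomputable def stL (k : Type u) [Field k] : (I27 → k) →ₗ[k] (I27 → k) →ₗ[k] (I27 → k) :=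
  LinearMap.mk₂ k st st_add_left st_smul_left st_add_right st_smul_right

theorem stL_apply (y z : I27 → k) : stL k y z = st y z := rfl

theorem st_mem_prods {x : ℕ → (I27 → k)} {y z : I27 → k} (hy : y ∈ spx 4 x) (hz : z ∈ spx 4 x) : st y z ∈ prods x := by
  have h1 : ∀ a ≤ 4, spx 4 x ≤ (prods x).comap (stL k (x a)) := fun a ha => spx_le fun b hb' => mem_prods ha hb'
  have h2 : spx 4 x ≤ (prods x).comap ((stL k).flip z) := spx_le fun a ha => h1 a ha hz
  exact h2 hy

variable {K : Type w} [Field K] [Fintype K] {κ : K →+* k}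
variable {ρ : Representation k (Matrix.SpecialLinearGroup (Fin 2) K) (I27 → k)}

theorem prods_stable (H : Act ρ) {x : ℕ → (I27 → k)} (h : Str κ ρ 4 x) (g : Matrix.SpecialLinearGroup (Fin 2) K) :
    ∀ y ∈ prods x, ρ g y ∈ prods x := by
  have h1 : prods x ≤ (prods x).comap (ρ g) := prods_le fun a ha b hb' => by
    rw [Submodule.mem_comap, ← st_inv H]
    exact st_mem_prods (str_stable h g _ (mem_spx ha)) (str_stable h g _ (mem_spx hb'))
  exact fun y hy => h1 hy

variable {x m v : ℕ → (I27 → k)} [Fact (Nat.Prime 7)] [CharP k 7]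

/-- vectors of the span almost fixed by `u 1` -/
theorem fix_top (hK : 7 ≤ Fintype.card K) (h : Str κ ρ 4 x) (h0 : x 0 ≠ 0) {w : I27 → k} (hw : w ∈ spx 4 x) {b : k}
    (hu : ρ (Cfsg.Agent.H943.SL2Rel.u 1) w = w + b • x 4) : ∃ c : k, w = b • x 3 + c • x 4 := by
  obtain ⟨c, rfl⟩ := spx_coord hw
  simp only [sum_range_succ, sum_range_zero, zero_add, map_add, map_smul, s4u0 h, s4u1 h, s4u2 h, s4u3 h, s4u4 h, map_one,
    one_pow, mul_one] at hu
  have h1 := str_li h (by omega) h0 (c := fun a => match a with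
    | 0 => 0
    | 1 => 4 * c 0
    | 2 => 6 * c 0 + 3 * c 1
    | 3 => 4 * c 0 + 3 * c 1 + 2 * c 2
    | _ => c 0 + c 1 + c 2 + c 3 - b) (by
      simp only [sum_range_succ, sum_range_zero, zero_add]
      linear_combination (norm := module) hu)
  have e1 := h1 1 (by norm_num)
  have e2 := h1 2 (by norm_num)
  have e3 := h1 3 (by norm_num)
  have e4 := h1 4 (by norm_num)
  simp only at e1 e2 e3 e4
  have c0 : c 0 = 0 := (mul_eq_zero.1 e1).resolve_left (n4 k)
  rw [c0, mul_zero, zero_add] at e2 e3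
  have c1 : c 1 = 0 := (mul_eq_zero.1 e2).resolve_left (n3 k)
  rw [c1, mul_zero, zero_add] at e3
  have c2 : c 2 = 0 := (mul_eq_zero.1 e3).resolve_left (n2 k)
  rw [c0, c1, c2] at e4
  refine ⟨c 4, ?_⟩
  simp only [sum_range_succ, sum_range_zero, zero_add, c0, c1, c2, zero_smul]
  have c3 : c 3 = b := by linear_combination e4
  rw [c3]

/-- the zero weight vectors -/
theorem fix_h (hK : 7 ≤ Fintype.card K) (h : Str κ ρ 4 x) (h0 : x 0 ≠ 0) {w : I27 → k} (hw : w ∈ spx 4 x)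
    (hu : ∀ t : Kˣ, ρ (Cfsg.Agent.H943.SL2Rel.h t) w = w) : ∃ c : k, w = c • x 2 := by
  obtain ⟨c, rfl⟩ := spx_coord hw
  have hcK : CharP K 7 := (κ.charP_iff κ.injective 7).2 inferInstance
  have h3 : (3 : K) ≠ 0 := n3 K
  have h5 : κ ((Units.mk0 (3 : K) h3 : Kˣ) : K) = 3 := by
    rw [Units.val_mk0, map_ofNat]
  have h4 := hu (Units.mk0 (3 : K) h3)
  rw [map_sum] at h4
  have h6 : ∑ a ∈ range (4 + 1), ρ (Cfsg.Agent.H943.SL2Rel.h (Units.mk0 (3 : K) h3)) (c a • x a) =
      ∑ a ∈ range (4 + 1), (c a * (3 ^ a * 5 ^ (4 - a))) • x a := by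
    refine sum_congr rfl fun a ha => ?_
    rw [mem_range] at ha
    rw [map_smul, h.h a (by omega), h5, inv3, smul_smul]
  rw [h6, ← sub_eq_zero, ← sum_sub_distrib] at h4
  have h1 := str_li h (by omega) h0 (c := fun a => c a * (3 ^ a * 5 ^ (4 - a)) - c a) (by
    rw [← h4]
    exact sum_congr rfl fun a _ => sub_smul _ _ _)
  have e0 := h1 0 (by norm_num)
  have e1 := h1 1 (by norm_num)
  have e3 := h1 3 (by norm_num)
  have e4 := h1 4 (by norm_num)
  have h7 := sv7 k
  norm_num at e0 e1 e3 e4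
  have c0 : c 0 = 0 := by linear_combination e0 - 89 * c 0 * h7
  have c1 : c 1 = 0 := by
    have : (3 : k) * c 1 = 0 := by linear_combination e1 - 53 * c 1 * h7
    exact (mul_eq_zero.1 this).resolve_left (n3 k)
  have c3 : c 3 = 0 := by linear_combination e3 - 19 * c 3 * h7
  have c4 : c 4 = 0 := by
    have : (3 : k) * c 4 = 0 := by linear_combination e4 - 11 * c 4 * h7
    exact (mul_eq_zero.1 this).resolve_left (n3 k)
  refine ⟨c 2, ?_⟩
  simp only [sum_range_succ, sum_range_zero, zero_add, c0, c1, c3, c4, zero_smul, add_zero]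

/-- `X * X` is not contained in `X` -/
theorem Dat.not_le (D : Dat κ ρ x m v) (hK : 7 ≤ Fintype.card K) (hle : prods x ≤ spx 4 x) : False := by
  obtain ⟨α, hα⟩ := D.hs_eq hK
  have hα0 := D.al_ne hK hα
  obtain ⟨-, -, -, -, -, e33⟩ := rels D.hq0 hα
  have h := D.sx
  have hcard : 4 < Fintype.card K := by omega
  have xne : ∀ a ≤ 4, x a ≠ 0 := fun a ha => str_ne h hcard D.x0 ha
  have hmem : ∀ a ≤ 4, ∀ b ≤ 4, st (x a) (x b) ∈ spx 4 x := fun a ha b hb' => hle (mem_prods ha hb')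
  have hl3 : ∀ a ≤ 4, ∀ b ≤ 4, (2 : k) • st (x a) (st (x a) (x b)) + st (x b) (st (x a) (x a)) = 0 := by
    intro a ha b hb'
    have h1 := lin3 (n2 k) (n3 k) (D.tx a ha) (D.tx a ha) (D.tx b hb')
    rw [D.xx a ha b hb', D.xx a ha a ha] at h1
    linear_combination (norm := module) h1
  have hcube : ∀ a ≤ 4, st (x a) (st (x a) (x a)) = 0 := by
    intro a ha
    rw [st_cube (n2 k) (n3 k) (D.tx a ha), D.xx a ha a ha, mul_zero, zero_smul]
  -- `x 4 * x 4 = 0`
  have e44 : st (x 4) (x 4) = 0 := by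
    obtain ⟨c, hc⟩ := fix_top (b := 0) hK h D.x0 (hmem 4 (by norm_num) 4 (by norm_num)) (by
      rw [← st_inv D.act, s4u4 h, zero_smul, add_zero])
    rw [zero_smul, zero_add] at hc
    have h1 := hcube 4 (by norm_num)
    rw [hc, st_smul_right, hc, smul_smul] at h1
    have h2 := (smul_eq_zero.1 h1).resolve_right (xne 4 (by norm_num))
    rw [hc, mul_self_eq_zero.1 h2, zero_smul]
  -- `x 3 * x 4 = 0`
  obtain ⟨c, hc⟩ := fix_top (b := 0) hK h D.x0 (hmem 3 (by norm_num) 4 (by norm_num)) (by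
    rw [← st_inv D.act, s4u4 h, s4u3 h, st_add_left, st_smul_left, e44, smul_zero, zero_smul])
  rw [zero_smul, zero_add] at hc
  have hc' : st (x 4) (x 3) = c • x 4 := by rw [st_comm, hc]
  obtain ⟨c', h33⟩ := fix_top (b := 2 * c) hK h D.x0 (hmem 3 (by norm_num) 3 (by norm_num)) (by
    rw [← st_inv D.act, s4u3 h, map_one, one_smul, st_add_left, st_add_right, st_add_right, e44, hc, hc']
    module)
  have hc0 : c = 0 := by
    have h1 := hl3 3 (by norm_num) 4 (by norm_num)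
    rw [h33, hc, st_smul_right, hc, st_add_right, st_smul_right, st_smul_right, e44, hc'] at h1
    have h2 : (4 * (c * c)) • x 4 = 0 := by linear_combination (norm := module) h1
    have h3 := (smul_eq_zero.1 h2).resolve_right (xne 4 (by norm_num))
    exact mul_self_eq_zero.1 ((mul_eq_zero.1 h3).resolve_left (n4 k))
  rw [hc0, zero_smul] at hc hc'
  -- `x 2 * x 4`
  obtain ⟨γ, hγ⟩ := fix_top (b := 0) hK h D.x0 (hmem 2 (by norm_num) 4 (by norm_num)) (by
    rw [← st_inv D.act, s4u4 h, s4u2 h, st_add_left, st_add_left, st_smul_left, st_smul_left, e44, hc, smul_zero, smul_zero,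
      zero_smul, add_zero])
  rw [zero_smul, zero_add] at hγ
  -- `x 2 * x 2 = 0`
  obtain ⟨δ, hδ⟩ := fix_h hK h D.x0 (hmem 2 (by norm_num) 2 (by norm_num)) (fun t => by
    have ht : κ t ≠ 0 := (map_ne_zero κ).2 t.ne_zero
    rw [← st_inv D.act, h.h 2 (by norm_num), st_smul_left, st_smul_right, smul_smul]
    have e : κ t ^ 2 * (κ t)⁻¹ ^ (4 - 2) = 1 := by
      rw [← mul_pow, mul_inv_cancel₀ ht, one_pow]
    rw [e, one_mul, one_smul])
  have hδ0 : δ = 0 := by
    have h1 := hcube 2 (by norm_num)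
    rw [hδ, st_smul_right, hδ, smul_smul] at h1
    exact mul_self_eq_zero.1 ((smul_eq_zero.1 h1).resolve_right (xne 2 (by norm_num)))
  rw [hδ0, zero_smul] at hδ
  have hγ0 : γ = 0 := by
    have h1 := hl3 2 (by norm_num) 4 (by norm_num)
    rw [hδ, hγ, st_smul_right, hγ, st_zr, add_zero, smul_smul, smul_smul] at h1
    have h2 := (smul_eq_zero.1 h1).resolve_right (xne 4 (by norm_num))
    have h3 : (2 : k) * (γ * γ) = 0 := by linear_combination h2
    exact mul_self_eq_zero.1 ((mul_eq_zero.1 h3).resolve_left (n2 k))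
  rw [hγ0, zero_smul] at hγ
  rw [st_comm (x 4) (x 2), hγ, zero_sub] at e33
  -- `x 2 * x 3`
  obtain ⟨c₂, hz⟩ := fix_top (b := -6 * α) hK h D.x0 (hmem 2 (by norm_num) 3 (by norm_num)) (by
    rw [← st_inv D.act, s4u3 h, s4u2 h, map_one, one_smul, one_pow, one_smul, mul_one, st_add_left, st_add_left, st_add_right,
      st_add_right, st_add_right, st_smul_left, st_smul_left, e44, hc, hc', hγ, e33]
    module)
  have h1 := hl3 2 (by norm_num) 3 (by norm_num)
  rw [hδ, st_zr, add_zero] at h1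
  have h2 := (smul_eq_zero.1 h1).resolve_left (n2 k)
  have h3 : st (x 2) (st (x 2) (x 3)) = (-6 * α) • st (x 2) (x 3) := by
    conv_lhs => rw [hz]
    rw [st_add_right, st_smul_right, st_smul_right, hγ, smul_zero, add_zero]
  rw [h3] at h2
  have h6α : (-6 * α : k) ≠ 0 := mul_ne_zero (neg_ne_zero.2 (n6 k)) hα0
  have h4 := (smul_eq_zero.1 h2).resolve_left h6α
  rw [h4] at hz
  have h5 := str_li h (by omega) D.x0 (c := fun a => match a with
    | 0 => 0
    | 1 => 0
    | 2 => 0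
    | 3 => -6 * α
    | _ => c₂) (by
      simp only [sum_range_succ, sum_range_zero, zero_add, zero_smul]
      exact hz.symm) 3 (by norm_num)
  exact h6α h5

/-- **step 2** -/
theorem Dat.c1_ne (D : Dat κ ρ x m v) (hK : 7 ≤ Fintype.card K) : tf (st (x 2) (x 2)) (x 2) ≠ 0 := by
  intro h0
  obtain ⟨α, hα⟩ := D.hs_eq hK
  obtain ⟨c₀, hc⟩ := tab222 hK D.act D.sx D.sx D.sx
  have hc0 : c₀ = 0 := by
    have h1 := hc 2 2 2
    have t1 : tau 2 2 2 2 2 2 = -6 := by decide +kernel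
    rw [t1, h0, mul_zero, mul_zero, mul_zero] at h1
    push_cast at h1
    have h2 : (6 : k) * c₀ = 0 := by linear_combination h1
    exact (mul_eq_zero.1 h2).resolve_left (n6 k)
  have hch : ∀ a ≤ 4, ((4 : ℕ).choose a : k) ≠ 0 := fun a ha => R2.F4N.choose_ne (p := 7) (by norm_num) ha
  have hxxx : ∀ a ≤ 4, ∀ b ≤ 4, ∀ c ≤ 4, tf (st (x a) (x b)) (x c) = 0 := by
    intro a ha b hb' c hc'
    have h1 := hc a b c
    rw [hc0, zero_mul] at h1
    exact (((mul_eq_zero.1 h1).resolve_left (hch a ha) |> mul_eq_zero.1).resolve_left (hch b hb') |> mul_eq_zero.1).resolve_left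
      (hch c hc')
  have H : HB κ ρ x := ⟨D.act, D.sx, D.tx, D.xx, hxxx, fun b hb' c hc' => by
    obtain ⟨l, i, hi, e⟩ := md D.hq0 hα b hb' c hc'
    exact ⟨l * α, i, hi, e⟩⟩
  refine D.not_le hK (D.iso (prods x) (fun g => prods_stable D.act D.sx g) ?_ ?_)
  · have h1 : prods x ≤ LinearMap.ker (trL k) := prods_le fun a ha b hb' => by
      rw [LinearMap.mem_ker]
      exact tr1_st (n3 k) (D.tx a ha)
    exact fun y hy => h1 hy
  · intro y hy z hz
    have h1 : ∀ a ≤ 4, ∀ b ≤ 4, ∀ z ∈ prods x, tf (st (x a) (x b)) z = 0 := by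
      intro a ha b hb' z hz
      have h2 : prods x ≤ LinearMap.ker (tfL k (st (x a) (x b))) := prods_le fun c hc' d hd => by
        rw [LinearMap.mem_ker]
        exact H.zero ha hb' hc' hd
      exact h2 hz
    have h3 : prods x ≤ LinearMap.ker (tfL k z) := prods_le fun a ha b hb' => by
      rw [LinearMap.mem_ker, tfL_apply, tf_comm]
      exact h1 a ha b hb' z hz
    have h4 := h3 hy
    rw [LinearMap.mem_ker, tfL_apply, tf_comm] at h4
    exact h4

end Cfsg.Agent.R2.H1.A7
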