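import Mathlib

/-!
# Unit propagation for linear systems in characteristic `p` (helper1, S5931)

A row is a list of pairs `(i, c)`, meaning `∑ c φ(i) = 0`. `prg p rows K` : the indices (a bit mask) which are known to be
zero if those of `K` are.
-/

set_option autoImplicit false

namespace Cfsg.Agent.R2.H1.A7

universe u

/-- add an entry to a row -/
def add1 : List (ℕ × ℤ) → ℕ × ℤ → List (ℕ × ℤ)
  | [], e => [e]
  | f :: l, e => if f.1 = e.1 then (f.1, f.2 + e.2) :: l else f :: add1 l e

/-- collect the entries -/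
def mrg (l : List (ℕ × ℤ)) : List (ℕ × ℤ) := l.foldl add1 []

/-- drop the known and the zero entries -/
def redK (p K : ℕ) (l : List (ℕ × ℤ)) : List (ℕ × ℤ) := l.filter fun e => !(K.testBit e.1) && !(e.2 % (p : ℤ) == 0)

/-- one step -/
def stp (p K : ℕ) (l : List (ℕ × ℤ)) : ℕ :=
  match redK p K (mrg l) with
  | [e] => K ||| (1 <<< e.1)
  | _ => K

/-- propagation -/
def prg (p : ℕ) (rows : List (List (ℕ × ℤ))) (K : ℕ) : ℕ := rows.foldl (stp p) K

variable {k : Type u} [Field k] (φ : ℕ → k)

/-- the value of a row -/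
def ev (l : List (ℕ × ℤ)) : k := (l.map fun e => (e.2 : k) * φ e.1).sum

theorem ev_nil : ev φ [] = 0 := rfl

theorem ev_cons (e : ℕ × ℤ) (l : List (ℕ × ℤ)) : ev φ (e :: l) = (e.2 : k) * φ e.1 + ev φ l := rfl

theorem ev_single (e : ℕ × ℤ) : ev φ [e] = (e.2 : k) * φ e.1 := by rw [ev_cons, ev_nil, add_zero]

theorem ev_append (l l' : List (ℕ × ℤ)) : ev φ (l ++ l') = ev φ l + ev φ l' := by
  unfold ev
  rw [List.map_append, List.sum_append]

theorem ev_flat (m : ℕ) (f : ℕ → List (ℕ × ℤ)) :
    ev φ ((List.range m).flatMap f) = ∑ i ∈ Finset.range m, ev φ (f i) := by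
  induction m with
  | zero => rfl
  | succ m ih =>
    rw [List.range_succ, List.flatMap_append, ev_append, ih, Finset.sum_range_succ]
    congr 1
    rw [List.flatMap_cons, List.flatMap_nil, List.append_nil]

theorem ev_add1 (l : List (ℕ × ℤ)) (e : ℕ × ℤ) : ev φ (add1 l e) = ev φ l + (e.2 : k) * φ e.1 := by
  induction l with
  | nil => rw [add1, ev_single, ev_nil, zero_add]
  | cons f l ih =>
    rw [add1]
    split_ifs with h
    · rw [ev_cons, ev_cons, ← h]
      push_cast
      ring
    · rw [ev_cons, ev_cons, ih]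
      ring

theorem ev_mrg (l : List (ℕ × ℤ)) : ev φ (mrg l) = ev φ l := by
  have key : ∀ l' : List (ℕ × ℤ), ev φ (l.foldl add1 l') = ev φ l' + ev φ l := by
    induction l with
    | nil => intro l'; rw [List.foldl_nil, ev_nil, add_zero]
    | cons e l ih =>
      intro l'
      rw [List.foldl_cons, ih, ev_add1, ev_cons]
      ring
  unfold mrg
  rw [key, ev_nil, zero_add]

variable {p : ℕ} [CharP k p]

theorem ev_redK {K : ℕ} (hK : ∀ i, K.testBit i = true → φ i = 0) (l : List (ℕ × ℤ)) : ev φ (redK p K l) = ev φ l := by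
  induction l with
  | nil => rfl
  | cons e l ih =>
    unfold redK at ih ⊢
    rw [List.filter_cons]
    split_ifs with h
    · rw [ev_cons, ev_cons, ih]
    · rw [ev_cons, ih]
      have h1 : (e.2 : k) * φ e.1 = 0 := by
        rw [Bool.and_eq_true, not_and_or, Bool.not_eq_true, Bool.not_eq_true, Bool.not_eq_false', Bool.not_eq_false',
          beq_iff_eq] at h
        rcases h with h | h
        · rw [hK _ h, mul_zero]
        · rw [(CharP.intCast_eq_zero_iff k p e.2).2 (Int.dvd_of_emod_eq_zero h), zero_mul]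
      rw [h1, zero_add]

theorem stp_spec {K : ℕ} (hK : ∀ i, K.testBit i = true → φ i = 0) {l : List (ℕ × ℤ)} (hl : ev φ l = 0) :
    ∀ i, (stp p K l).testBit i = true → φ i = 0 := by
  intro i hi
  unfold stp at hi
  split at hi
  · rename_i e he
    rw [Nat.testBit_or, Bool.or_eq_true] at hi
    rcases hi with hi | hi
    · exact hK i hi
    · have hie : e.1 = i := by
        rw [Nat.one_shiftLeft, Nat.testBit_two_pow] at hi
        simpa using hi
      have h1 := ev_redK φ (p := p) hK (mrg l)
      rw [he, ev_mrg, hl, ev_single] at h1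
      have h2 : e ∈ redK p K (mrg l) := by rw [he]; exact List.mem_singleton_self e
      unfold redK at h2
      rw [List.mem_filter, Bool.and_eq_true] at h2
      have h3 : (e.2 : k) ≠ 0 := by
        intro h4
        rw [CharP.intCast_eq_zero_iff k p] at h4
        have h5 := Int.emod_eq_zero_of_dvd h4
        have h6 := h2.2.2
        rw [h5] at h6
        simp at h6
      rw [← hie]
      exact (mul_eq_zero.1 h1).resolve_left h3
  · exact hK i hi

theorem prg_spec (rows : List (List (ℕ × ℤ))) (hr : ∀ l ∈ rows, ev φ l = 0) {K : ℕ}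
    (hK : ∀ i, K.testBit i = true → φ i = 0) : ∀ i, (prg p rows K).testBit i = true → φ i = 0 := by
  unfold prg
  induction rows generalizing K with
  | nil => exact hK
  | cons l rows ih =>
    rw [List.foldl_cons]
    exact ih (fun l' hl' => hr l' (List.mem_cons_of_mem _ hl')) (stp_spec φ hK (hr l List.mem_cons_self))

/-- **unit propagation** -/
theorem prg_zero (rows : List (List (ℕ × ℤ))) (hr : ∀ l ∈ rows, ev φ l = 0) {i : ℕ} (h : (prg p rows 0).testBit i = true) :
    φ i = 0 :=
  prg_spec φ rows hr (fun i hi => by simp at hi) i h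

end Cfsg.Agent.R2.H1.A7
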